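import Mathlib

/-!
# No fixed-point-free representation of PSL(2,q) in characteristic 2, q odd and at least 7

In a ring of characteristic 2 a representation of `SL(2,q)` trivial on `-1` in which every element of odd
order has norm zero forces the ring to be trivial.
-/

set_option autoImplicit false

namespace Cfsg.Agent.CNStructure.PslRing

open Matrix Finset

variable {F : Type*} [Field F]

local notation "SG" => Matrix.SpecialLinearGroup (Fin 2) F

/-- Unipotent element. -/
def u (b : F) : SG := ⟨!![1, b; 0, 1], by simp [det_fin_two]⟩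

/-- Torus element. -/
def h (a : Fˣ) : SG := ⟨!![(a : F), 0; 0, (a : F)⁻¹], by simp [det_fin_two]⟩

/-- Weyl element. -/
def w : SG := ⟨!![0, 1; -1, 0], by simp [det_fin_two]⟩

theorem u_mul (a b : F) : u a * u b = u (a + b) := by
  refine Subtype.ext ?_
  simp only [Matrix.SpecialLinearGroup.coe_mul]
  ext i j; fin_cases i <;> fin_cases j <;> simp [u, Matrix.mul_apply, Fin.sum_univ_two, add_comm]

theorem u_zero : u (0 : F) = 1 := by
  refine Subtype.ext ?_
  ext i j; fin_cases i <;> fin_cases j <;> simp [u]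

theorem h_mul (a b : Fˣ) : h a * h b = h (a * b) := by
  refine Subtype.ext ?_
  simp only [Matrix.SpecialLinearGroup.coe_mul]
  ext i j; fin_cases i <;> fin_cases j <;> simp [h, Matrix.mul_apply, Fin.sum_univ_two, mul_comm]

theorem h_one : h (1 : Fˣ) = 1 := by
  refine Subtype.ext ?_
  ext i j; fin_cases i <;> fin_cases j <;> simp [h]

theorem h_neg_one : h (-1 : Fˣ) = (-1 : SG) := by
  refine Subtype.ext ?_
  ext i j; fin_cases i <;> fin_cases j <;> simp [h]

theorem h_u (a : Fˣ) (b : F) : h a * u b = u ((a : F) * a * b) * h a := by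
  refine Subtype.ext ?_
  simp only [Matrix.SpecialLinearGroup.coe_mul]
  ext i j; fin_cases i <;> fin_cases j <;> simp [u, h, Matrix.mul_apply, Fin.sum_univ_two]
  field_simp

theorem w_h (a : Fˣ) : w * h a = h a⁻¹ * w := by
  refine Subtype.ext ?_
  simp only [Matrix.SpecialLinearGroup.coe_mul]
  ext i j; fin_cases i <;> fin_cases j <;> simp [w, h, Matrix.mul_apply, Fin.sum_univ_two]

theorem w_w : w * w = (-1 : SG) := by
  refine Subtype.ext ?_
  simp only [Matrix.SpecialLinearGroup.coe_mul]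
  ext i j; fin_cases i <;> fin_cases j <;> simp [w, Matrix.mul_apply, Fin.sum_univ_two]

/-- The Bruhat relation. -/
theorem w_u_w (b : F) (c : Fˣ) (hc : (c : F) * b = -1) :
    w * u b * w = u (c : F) * h c * w * u (c : F) := by
  refine Subtype.ext ?_
  simp only [Matrix.SpecialLinearGroup.coe_mul]
  have h1 : (c : F)⁻¹ = -b := by
    rw [← mul_right_inj' c.ne_zero, mul_inv_cancel₀ c.ne_zero, mul_neg, hc, neg_neg]
  ext i j; fin_cases i <;> fin_cases j <;> simp [u, h, w, Matrix.mul_apply, Fin.sum_univ_two, h1] <;>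
    grind

theorem elt_cube (c : Fˣ) : (u (c : F) * (h c * w)) ^ 3 = 1 := by
  refine Subtype.ext ?_
  rw [Matrix.SpecialLinearGroup.coe_pow, pow_three]
  simp only [Matrix.SpecialLinearGroup.coe_mul]
  have := c.ne_zero
  ext i j; fin_cases i <;> fin_cases j <;> simp [u, h, w, Matrix.mul_apply, Fin.sum_univ_two] <;> field_simp <;> ring

theorem elt_ne (c : Fˣ) : u (c : F) * (h c * w) ≠ 1 := fun e => by
  have := congrArg (fun g : SG => (g : Matrix (Fin 2) (Fin 2) F) 0 1) e
  simp only [Matrix.SpecialLinearGroup.coe_mul, Matrix.SpecialLinearGroup.coe_one] at this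
  simp [u, h, w, Matrix.mul_apply, Fin.sum_univ_two] at this

theorem u_pow (b : F) (n : ℕ) : u b ^ n = u ((n : F) * b) := by
  induction n with
  | zero => simp [u_zero]
  | succ n ih => rw [pow_succ, ih, u_mul]; congr 1; push_cast; ring

theorem u_ne_one {b : F} (hb : b ≠ 0) : u b ≠ 1 := fun e => hb (by
  have := congrArg (fun g : SG => (g : Matrix (Fin 2) (Fin 2) F) 0 1) e
  simpa [u] using this)

section Rep

variable {R : Type*} [Ring R] (ρ : Matrix.SpecialLinearGroup (Fin 2) F →* R) (h2 : (2 : R) = 0)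
  (hneg : ρ (-1) = 1)
  (hN : ∀ (g : Matrix.SpecialLinearGroup (Fin 2) F) (n : ℕ), Odd n → g ^ n = 1 → g ≠ 1 → ∑ j ∈ range n, (ρ g) ^ j = 0)

/-- Commutes with the image of the unipotent group. -/
def InC (a : R) : Prop := ∀ x : F, Commute a (ρ (u x))

theorem inC_u (b : F) : InC ρ (ρ (u b)) := fun x => by
  show _ = _
  rw [← map_mul, ← map_mul, u_mul, u_mul, add_comm]

include h2 hN in
/-- `1 + ρ (u b)` is invertible. -/
theorem exists_inv {p : ℕ} [CharP F p] (hp : Odd p) (hp1 : p.Prime) {b : F} (hb : b ≠ 0) :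
    ∃ v : R, InC ρ v ∧ v * (1 + ρ (u b)) = 1 := by
  obtain ⟨k, hk⟩ := hp
  have hz := hN (u b) p ⟨k, hk⟩ (by rw [u_pow, CharP.cast_eq_zero, zero_mul, u_zero]) (u_ne_one hb)
  refine ⟨∑ j ∈ range k, (ρ (u b)) ^ (2 * j + 1), fun x => Commute.sum_left _ _ _ fun j _ =>
    (inC_u ρ b x).pow_left _, ?_⟩
  have key : ∀ m : ℕ, ∑ j ∈ range (2 * m + 1), (ρ (u b)) ^ j =
      1 + (∑ j ∈ range m, (ρ (u b)) ^ (2 * j + 1)) * (1 + ρ (u b)) := by
    intro m
    induction m with
    | zero => simp
    | succ m ih =>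
      rw [show 2 * (m + 1) + 1 = (2 * m + 1) + 1 + 1 by ring, sum_range_succ, sum_range_succ, ih,
        sum_range_succ, add_mul, mul_add ((ρ (u b)) ^ (2 * m + 1)), mul_one, ← pow_succ]
      abel
  rw [hk, key] at hz
  have := eq_neg_of_add_eq_zero_right hz
  rw [this, neg_eq_iff_add_eq_zero, one_add_one_eq_two, h2]

include h2 in
theorem add_self (x : R) : x + x = 0 := by rw [← two_mul, h2, zero_mul]

include hN h2 hneg in
theorem cube_rel (c : Fˣ) :
    ρ (u (c : F)) * (ρ (h c * w) * ρ (u (c : F))) = ρ (u (c : F)) + ρ (h c * w) := by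
  have hz := hN _ 3 ⟨1, rfl⟩ (elt_cube c) (elt_ne c)
  rw [sum_range_succ, sum_range_succ, sum_range_one, pow_zero, pow_one, pow_two, map_mul] at hz
  have hW : ρ (h c * w) * ρ (h c * w) = 1 := by
    rw [← map_mul, show h c * w * (h c * w) = h c * (w * h c) * w by group, w_h, ← mul_assoc, h_mul,
      mul_inv_cancel, h_one, one_mul, w_w, hneg]
  set U := ρ (u (c : F))
  set W := ρ (h c * w)
  have e : U * W * (U * W) = U * W + 1 := by
    have h1 : U * W * (U * W) + (U * W + 1) = 0 := by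
      rw [← hz]; abel
    rw [← add_zero (U * W * (U * W)), ← add_self h2 (U * W + 1), ← add_assoc, h1, zero_add]
  have h3 := congrArg (· * W) e
  simp only [add_mul, one_mul, mul_assoc, hW, mul_one] at h3
  rw [← mul_assoc, mul_assoc]
  exact h3

include hN h2 hneg in
theorem main_rel (d : Fˣ) (half : Fˣ) (hhalf : (half : F) * 2 = 1) :
    (ρ (u (d : F)) + ρ (u (-(d : F))) + ρ (h half)) * ρ w =
      (ρ (u (2 * d)) + ρ (u ((half : F) * d))) * ρ (h d) := by
  have hww : ρ w * ρ w = 1 := by rw [← map_mul, w_w, hneg]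
  have star : ∀ (b : F) (c : Fˣ), (c : F) * b = -1 →
      ρ w * ρ (u b) * ρ w = ρ (u (c : F)) + ρ (h c) * ρ w := by
    intro b c hc
    rw [← map_mul, ← map_mul, w_u_w b c hc, show u (c : F) * h c * w * u (c : F) =
      u (c : F) * ((h c * w) * u (c : F)) by group, map_mul, map_mul, cube_rel ρ h2 hneg hN c, map_mul]
  set c : Fˣ := d⁻¹ with hcdef
  have hcd : (c : F) * (d : F) = 1 := by rw [hcdef, ← Units.val_mul, inv_mul_cancel, Units.val_one]
  have e1 := star (-(d : F)) c (by rw [mul_neg, hcd])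
  have e2 := star (-(2 * (d : F))) (c * half) (by
    rw [Units.val_mul, mul_neg]; linear_combination -((half : F) * 2) * hcd - hhalf)
  have e3 := star ((c : F)) (-d) (by rw [Units.val_neg, neg_mul, mul_comm, hcd])
  rw [Units.val_mul] at e2
  rw [Units.val_neg] at e3
  have hsq : ρ w * ρ (u (-(2 * (d : F)))) * ρ w =
      (ρ w * ρ (u (-(d : F))) * ρ w) * (ρ w * ρ (u (-(d : F))) * ρ w) := by
    conv_rhs => rw [show ∀ x y : R, x * y * ρ w * (ρ w * y * ρ w) = x * (y * (ρ w * ρ w) * y) * ρ w from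
      fun x y => by noncomm_ring, hww, mul_one, ← map_mul ρ, u_mul]
    congr 4
    ring
  set U := ρ (u (c : F))
  set H := ρ (h c)
  set W := ρ w
  have hHW : H * W * (H * W) = 1 := by
    rw [← map_mul, ← map_mul, show h c * w * (h c * w) = h c * (w * h c) * w by group, w_h, ← mul_assoc,
      h_mul, mul_inv_cancel, h_one, one_mul, w_w, hneg]
  have hWU : H * W * U = ρ (u (-(c : F))) * H * W + 1 := by
    calc H * W * U = H * (W * U * W) * W := by
          rw [mul_assoc H (W * U * W), mul_assoc (W * U), hww, mul_one, mul_assoc]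
      _ = H * ρ (u (-(d : F))) * W + H * ρ (h (-d)) * (W * W) := by rw [e3]; noncomm_ring
      _ = _ := by
          rw [hww, mul_one]
          simp only [H, ← map_mul ρ (h c), h_u, h_mul]
          rw [map_mul, mul_neg c, hcdef, inv_mul_cancel, h_neg_one, hneg, ← hcdef]
          rw [show (c : F) * c * -(d : F) = -(c : F) by linear_combination -(c : F) * hcd]
  rw [e1, e2] at hsq
  have hsq' : ρ (u ((c : F) * half)) + ρ (h (c * half)) * W =
      ρ (u (2 * (c : F))) + (U + ρ (u (-(c : F)))) * H * W := by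
    calc ρ (u ((c : F) * half)) + ρ (h (c * half)) * W = (U + H * W) * (U + H * W) := hsq
      _ = U * U + U * H * W + (H * W * U + H * W * (H * W)) := by noncomm_ring
      _ = _ := by
        rw [hWU, hHW, ← map_mul, u_mul, ← two_mul]
        linear_combination (norm := noncomm_ring) add_self h2 (1 : R)
  have hd : ρ (h d) * H = 1 := by rw [← map_mul, h_mul, hcdef, mul_inv_cancel, h_one, map_one]
  have hu : ∀ x : F, ρ (h d) * ρ (u x) = ρ (u ((d : F) * d * x)) * ρ (h d) := fun x => by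
    rw [← map_mul, ← map_mul, h_u]
  have h5 := congrArg (ρ (h d) * ·) hsq'
  simp only [mul_add, add_mul, ← mul_assoc, U, hu] at h5
  have e4 : ρ (h d) * ρ (h (c * half)) = ρ (h half) := by
    rw [← map_mul, h_mul, hcdef, mul_inv_cancel_left]
  rw [e4, mul_assoc _ (ρ (h d)) H, mul_assoc _ (ρ (h d)) H, hd, mul_one, mul_one] at h5
  rw [show (d : F) * d * c * half = half * d by linear_combination (half : F) * d * hcd,
    show (d : F) * d * 2 * c = 2 * d by linear_combination 2 * (d : F) * hcd,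
    show (d : F) * d * c = d by linear_combination (d : F) * hcd,
    show (d : F) * d * -(c : F) = -d by linear_combination -(d : F) * hcd] at h5
  rw [add_mul, add_mul, add_mul]
  calc ρ (u (d : F)) * W + ρ (u (-(d : F))) * W + ρ (h half) * W
      = ρ (u ((half : F) * d)) * ρ (h d) + (ρ (u ((half : F) * d)) * ρ (h d) + ρ (h half) * W)
        + (ρ (u (d : F)) * W + ρ (u (-(d : F))) * W) := by
        rw [← add_assoc (ρ (u ((half : F) * d)) * ρ (h d)), add_self h2, zero_add]; abel
    _ = ρ (u ((half : F) * d)) * ρ (h d) + ρ (u (2 * (d : F))) * ρ (h d)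
        + ((ρ (u (d : F)) * W + ρ (u (-(d : F))) * W) + (ρ (u (d : F)) * W + ρ (u (-(d : F))) * W)) := by
        rw [h5]; abel
    _ = _ := by rw [add_self h2, add_zero, add_comm]

/-- An element of the form `a h` with `a` commuting with the unipotents. -/
theorem term_u {a : R} (ha : InC ρ a) (μ : Fˣ) (x : F) :
    a * ρ (h μ) * ρ (u x) = ρ (u ((μ : F) * μ * x)) * (a * ρ (h μ)) := by
  rw [mul_assoc, ← map_mul, h_u, map_mul, ← mul_assoc, (ha _).eq, mul_assoc]

include h2 hN hneg in
/-- The ring is trivial. -/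
theorem one_eq_zero [Fintype F] (hodd : ringChar F ≠ 2) (hq : 7 ≤ Fintype.card F) : (1 : R) = 0 := by
  classical
  obtain ⟨p, hpF⟩ := CharP.exists F
  haveI := hpF
  have hp : p.Prime := CharP.char_is_prime F p
  have hpodd : Odd p := hp.odd_of_ne_two (ringChar.eq F p ▸ hodd)
  have h2F : (2 : F) ≠ 0 := Ring.two_ne_zero hodd
  set half : Fˣ := (Units.mk0 (2 : F) h2F)⁻¹
  have hhalf : (half : F) * 2 = 1 := by simp [half, h2F]
  obtain ⟨d, hd⟩ : ∃ d : Fˣ, d ^ 4 ≠ 1 := by
    by_contra! hall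
    have h1 := IsCyclic.card_pow_eq_one_le (α := Fˣ) (n := 4) (by norm_num)
    rw [Finset.filter_true_of_mem fun a _ => hall a, Finset.card_univ, Fintype.card_units] at h1
    omega
  have hd2 : (d : F) * d ≠ 1 := fun e => hd (Units.ext (by push_cast; linear_combination ((d : F) * d + 1) * e))
  have hd2' : (d : F) * d ≠ -1 := fun e => hd (Units.ext (by push_cast; linear_combination ((d : F) * d - 1) * e))
  have r1 := main_rel ρ h2 hneg hN d half hhalf
  have r2 := main_rel ρ h2 hneg hN 1 half hhalf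
  rw [h_one, map_one, mul_one, Units.val_one, mul_one, mul_one] at r2
  set T := ρ (u (d : F)) + ρ (u (-(d : F))) + (ρ (u 1) + ρ (u (-1)))
  set D := ρ (u (2 * (d : F))) + ρ (u ((half : F) * d))
  set D1 := ρ (u (2 : F)) + ρ (u (half : F))
  have hTw : T * ρ w = D * ρ (h d) + D1 := by
    have : T * ρ w = (ρ (u (d : F)) + ρ (u (-(d : F))) + ρ (h half)) * ρ w +
        (ρ (u 1) + ρ (u (-1)) + ρ (h half)) * ρ w := by
      rw [← add_mul]
      congr 1
      rw [show ∀ x y z : R, (x + z) + (y + z) = x + y + (z + z) from fun x y z => by abel, add_self h2, add_zero]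
    rw [this, r1, r2]
  obtain ⟨v1, hv1C, hv1⟩ := exists_inv ρ h2 hN hpodd hp (b := (d : F) + 1) fun e => hd2 (by linear_combination ((d : F) - 1) * e)
  obtain ⟨v2, hv2C, hv2⟩ := exists_inv ρ h2 hN hpodd hp (b := (d : F) - 1) fun e => hd2 (by linear_combination ((d : F) + 1) * e)
  set E := v2 * v1 * ρ (u (d : F))
  have hEC : InC ρ E := fun x => ((hv2C x).mul_left (hv1C x)).mul_left (inC_u ρ _ x)
  have hET : E * T = 1 := by
    have hT : ρ (u (d : F)) * T = (1 + ρ (u ((d : F) + 1))) * (1 + ρ (u ((d : F) - 1))) := by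
      simp only [T, mul_add, add_mul, one_mul, mul_one, ← map_mul, u_mul]
      rw [show (d : F) + -d = 0 by ring, u_zero, map_one, show (d : F) + 1 + ((d : F) - 1) = d + d by ring,
        ← sub_eq_add_neg]
      abel
    rw [mul_assoc (v2 * v1), hT, mul_assoc v2, ← mul_assoc v1, hv1, one_mul, hv2]
  set a := E * D1
  set b := E * D
  have haC : InC ρ a := fun x => (hEC x).mul_left ((inC_u ρ _ x).add_left (inC_u ρ _ x))
  have hbC : InC ρ b := fun x => (hEC x).mul_left ((inC_u ρ _ x).add_left (inC_u ρ _ x))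
  have hw : ρ w = b * ρ (h d) + a := by
    rw [← one_mul (ρ w), ← hET, mul_assoc, hTw, mul_add, ← mul_assoc]
  -- commute past the torus
  set a' := ρ (h d⁻¹) * a * ρ (h d)
  set b' := ρ (h d⁻¹) * b * ρ (h d)
  have hconjC : ∀ z : R, InC ρ z → InC ρ (ρ (h d⁻¹) * z * ρ (h d)) := by
    intro z hz x
    show _ = _
    rw [mul_assoc, ← map_mul, h_u, map_mul, ← mul_assoc, mul_assoc (ρ (h d⁻¹)), (hz _).eq, ← mul_assoc,
      ← map_mul, h_u, map_mul]
    simp only [mul_assoc]
    congr 2
    rw [Units.val_inv_eq_inv_val]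
    field_simp
  have ha'C : InC ρ a' := hconjC a haC
  have hb'C : InC ρ b' := hconjC b hbC
  set H : Fˣ → R := fun μ => ρ (h μ)
  have key : a * H d + b * H (d * d) + a' * H d⁻¹ + b' = 0 := by
    have e := congrArg ρ (w_h d)
    rw [map_mul, map_mul, hw] at e
    have e1 : (b * ρ (h d) + a) * ρ (h d) = a * H d + b * H (d * d) := by
      rw [add_mul, mul_assoc, ← map_mul, h_mul, add_comm]
    have e2 : ρ (h d⁻¹) * (b * ρ (h d) + a) = a' * H d⁻¹ + b' := by
      rw [mul_add, ← mul_assoc, add_comm]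
      congr 1
      rw [mul_assoc (ρ (h d⁻¹) * a), ← map_mul, h_mul, mul_inv_cancel, h_one, map_one, mul_one]
    rw [e1, e2] at e
    rw [add_assoc, ← e, add_self h2]
  -- elimination
  have hneu : ∀ y z : F, y ≠ z → ∀ X : R, (ρ (u y) + ρ (u z)) * X = 0 → X = 0 := by
    intro y z hyz X hX
    obtain ⟨v, -, hv⟩ := exists_inv ρ h2 hN hpodd hp (b := y - z) (sub_ne_zero.2 hyz)
    have e : ρ (u y) + ρ (u z) = ρ (u z) * (1 + ρ (u (y - z))) := by
      rw [mul_add, mul_one, ← map_mul, u_mul, add_sub_cancel, add_comm]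
    have hX' := congrArg (fun s => v * (ρ (u (-z)) * s)) hX
    simp only [mul_zero, e] at hX'
    rw [← mul_assoc, ← mul_assoc, ← mul_assoc, mul_assoc v, ← map_mul, u_mul, neg_add_cancel, u_zero,
      map_one, mul_one, hv, one_mul] at hX'
    exact hX'
  have elim : ∀ (S : R), S = 0 → ∀ (x y : F), S * ρ (u x) + ρ (u y) * S = 0 := fun S hS x y => by
    rw [hS, zero_mul, mul_zero, add_zero]
  have hb'1 : ∀ x : F, b' * ρ (u x) = ρ (u x) * b' := fun x => (hb'C x).eq
  -- kill b'
  have k1 : ∀ x : F, (ρ (u ((d : F) * d * x)) + ρ (u x)) * (a * H d) +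
      (ρ (u (((d * d : Fˣ) : F) * (d * d : Fˣ) * x)) + ρ (u x)) * (b * H (d * d)) +
      (ρ (u (((d⁻¹ : Fˣ) : F) * (d⁻¹ : Fˣ) * x)) + ρ (u x)) * (a' * H d⁻¹) = 0 := by
    intro x
    have := elim _ key x x
    simp only [add_mul, mul_add, H, term_u ρ haC, term_u ρ hbC, term_u ρ ha'C, hb'1] at this
    rw [← this]
    simp only [add_mul, H]
    linear_combination (norm := abel) -(add_self h2 (ρ (u x) * b'))
  set μ := ((d * d : Fˣ) : F) * (d * d : Fˣ) with hμ
  set ν := ((d⁻¹ : Fˣ) : F) * (d⁻¹ : Fˣ) with hν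
  have hsum : ∀ y z : F, InC ρ (ρ (u y) + ρ (u z)) := fun y z x => (inC_u ρ y x).add_left (inC_u ρ z x)
  have shift : ∀ (X a₀ : R) (κ : Fˣ) (x y : F), InC ρ X → InC ρ a₀ →
      X * (a₀ * H κ) * ρ (u x) + ρ (u y) * (X * (a₀ * H κ)) =
        (ρ (u ((κ : F) * κ * x)) + ρ (u y)) * (X * (a₀ * H κ)) := by
    intro X a₀ κ x y hX ha₀
    rw [add_mul]
    congr 1
    rw [mul_assoc X, show H κ = ρ (h κ) from rfl, term_u ρ ha₀ κ x, ← mul_assoc, (hX _).eq, mul_assoc]
  have split3 : ∀ A B C r s : R, (A + B + C) * r + s * (A + B + C) =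
      (A * r + s * A) + (B * r + s * B) + (C * r + s * C) := fun A B C r s => by noncomm_ring
  have k2 : ∀ x y : F, (ρ (u ((d : F) * d * y)) + ρ (u (μ * y))) *
      ((ρ (u ((d : F) * d * x)) + ρ (u x)) * (a * H d)) +
      (ρ (u (ν * y)) + ρ (u (μ * y))) * ((ρ (u (ν * x)) + ρ (u x)) * (a' * H d⁻¹)) = 0 := by
    intro x y
    have := elim _ (k1 x) y (μ * y)
    rw [split3, shift _ _ _ _ _ (hsum _ _) haC, shift _ _ _ _ _ (hsum _ _) hbC,
      shift _ _ _ _ _ (hsum _ _) ha'C, ← hμ, ← hν, add_self h2 (ρ (u (μ * y))), zero_mul, add_zero] at this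
    exact this
  have k3 : (ρ (u ((d : F) * d)) + ρ (u ν)) * ((ρ (u ((d : F) * d * 1)) + ρ (u (μ * 1))) *
      ((ρ (u ((d : F) * d * 1)) + ρ (u 1)) * (a * H d))) = 0 := by
    have := elim _ (k2 1 1) 1 ν
    have split2 : ∀ A B r s : R, (A + B) * r + s * (A + B) = (A * r + s * A) + (B * r + s * B) :=
      fun A B r s => by noncomm_ring
    rw [split2, ← mul_assoc (_ + _) (_ + _), ← mul_assoc (_ + _) (_ + _),
      shift _ _ _ _ _ (fun x => (hsum _ _ x).mul_left (hsum _ _ x)) haC,
      shift _ _ _ _ _ (fun x => (hsum _ _ x).mul_left (hsum _ _ x)) ha'C, ← hν] at this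
    simp only [mul_one, add_self h2 (ρ (u ν)), zero_mul, add_zero] at this
    simpa only [mul_one, mul_assoc] using this
  have hdd : (d : F) * d ≠ 0 := mul_ne_zero d.ne_zero d.ne_zero
  have ne1 : (d : F) * d ≠ ν := by
    intro e
    rw [hν, Units.val_inv_eq_inv_val] at e
    field_simp at e
    exact hd (Units.ext (by push_cast; linear_combination e))
  have ne2 : (d : F) * d * 1 ≠ μ * 1 := by
    rw [mul_one, mul_one, hμ]; push_cast
    exact fun e => hd2 (mul_left_cancel₀ hdd (by linear_combination -e))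
  have ha0 : a * H d = 0 := hneu _ _ (by simpa using hd2) _ (hneu _ _ ne2 _ (hneu _ _ ne1 _ k3))
  have ha : a = 0 := by
    have := congrArg (· * ρ (h d⁻¹)) ha0
    rwa [zero_mul, mul_assoc, ← map_mul, h_mul, mul_inv_cancel, h_one, map_one, mul_one] at this
  have ha' : a' = 0 := by simp [a', ha]
  have hb0 : b * H (d * d) = 0 := by
    refine hneu (μ * 1) 1 ?_ _ ?_
    · rw [mul_one, hμ]; push_cast
      intro e
      exact hd (Units.ext (by push_cast; linear_combination e))
    · have := k1 1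
      rw [ha, ha', zero_mul, zero_mul, mul_zero, mul_zero, zero_add, add_zero] at this
      exact this
  have hb : b = 0 := by
    have := congrArg (· * ρ (h (d * d)⁻¹)) hb0
    rwa [zero_mul, mul_assoc, ← map_mul, h_mul, mul_inv_cancel, h_one, map_one, mul_one] at this
  rw [hb, ha, zero_mul, add_zero] at hw
  rw [← hneg, ← w_w, map_mul, hw, zero_mul]

end Rep

end Cfsg.Agent.CNStructure.PslRing
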