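import Cfsg.Agent.CNStructure.Norm
import Cfsg.Agent.CNStructure.PslRing

/-!
# The quotients which do not act fixed-point-freely in characteristic two
-/

set_option autoImplicit false

namespace Cfsg.Agent.CNStructure

open Matrix Finset

variable {R : Type*} [Ring R] (h2 : (2 : R) = 0) {X : Type*} [Group X] (ρ : X →* R)
  (hN : ∀ (g : X) (n : ℕ), Odd n → g ^ n = 1 → g ≠ 1 → ∑ j ∈ range n, ρ g ^ j = 0)

include h2 hN in
/-- `PSL(2,q)`, `q` odd and at least 7. -/
theorem psl_two_absurd {F : Type*} [Field F] [Fintype F] (hodd : ringChar F ≠ 2) (hq : 7 ≤ Fintype.card F)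
    (f : Matrix.ProjectiveSpecialLinearGroup (Fin 2) F →* X) (hf : Function.Injective f) : (1 : R) = 0 := by
  let π : Matrix.SpecialLinearGroup (Fin 2) F →* Matrix.ProjectiveSpecialLinearGroup (Fin 2) F :=
    QuotientGroup.mk' _
  have hz : (-1 : Matrix.SpecialLinearGroup (Fin 2) F) ∈ Subgroup.center _ := by
    rw [Subgroup.mem_center_iff]
    intro h
    refine Subtype.ext ?_
    simp
  refine PslRing.one_eq_zero ((ρ.comp f).comp π) h2 ?_ (fun g n hn hg hg1 => ?_) hodd hq
  · simp [π, (QuotientGroup.eq_one_iff _).2 hz]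
  · simp only [MonoidHom.comp_apply]
    refine hN _ n hn (by rw [← map_pow, ← map_pow, hg, map_one, map_one]) fun e => ?_
    have e' : π g = 1 := hf (by rw [e, map_one])
    obtain ⟨c, hc, ec⟩ := Matrix.SpecialLinearGroup.mem_center_iff.1 ((QuotientGroup.eq_one_iff g).1 e')
    rw [Fintype.card_fin, sq_eq_one_iff] at hc
    rcases hc with rfl | rfl
    · exact hg1 (Subtype.ext (by rw [← ec]; simp))
    · have hgm : g = -1 := Subtype.ext (by rw [← ec]; ext i j; fin_cases i <;> fin_cases j <;> simp)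
      rw [hgm, hn.neg_one_pow] at hg
      have h00 := congrArg (fun A : Matrix.SpecialLinearGroup (Fin 2) F => (A : Matrix (Fin 2) (Fin 2) F) 0 0) hg
      simp at h00
      exact Ring.neg_one_ne_one_of_char_ne_two hodd h00

include h2 hN in
/-- `PSL(3,4)`. -/
theorem psl_three_absurd {F : Type*} [Field F] [Fintype F] (hq : Fintype.card F = 4)
    (f : Matrix.ProjectiveSpecialLinearGroup (Fin 3) F →* X) (hf : Function.Injective f) : (1 : R) = 0 := by
  classical
  obtain ⟨w, hw⟩ : ∃ w : Fˣ, w ≠ 1 := by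
    by_contra! hall
    have : Fintype.card Fˣ ≤ 1 := Fintype.card_le_one_iff.2 fun a b => by rw [hall a, hall b]
    rw [Fintype.card_units, hq] at this
    omega
  have hw3 : (w : F) * w * w = 1 := by
    have h3 : w ^ 3 = 1 := by
      have := pow_card_eq_one (x := w)
      rwa [Fintype.card_units, hq] at this
    have := congrArg Units.val h3
    push_cast at this
    linear_combination this
  have hw1 : (w : F) ≠ 1 := fun e => hw (Units.ext e)
  have hw2 : (w : F) * w ≠ 1 := fun e => hw1 (by rwa [e, one_mul] at hw3)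
  let D : Matrix.SpecialLinearGroup (Fin 3) F := ⟨!![1, 0, 0; 0, (w : F), 0; 0, 0, (w : F) * w], by
    simp [Matrix.det_fin_three, ← mul_assoc, hw3]⟩
  let P : Matrix.SpecialLinearGroup (Fin 3) F := ⟨!![0, 1, 0; 0, 0, 1; 1, 0, 0], by simp [Matrix.det_fin_three]⟩
  let π : Matrix.SpecialLinearGroup (Fin 3) F →* Matrix.ProjectiveSpecialLinearGroup (Fin 3) F :=
    QuotientGroup.mk' _
  have hne : ∀ g : Matrix.SpecialLinearGroup (Fin 3) F,
      (g : Matrix (Fin 3) (Fin 3) F) 0 1 ≠ 0 ∨ (g : Matrix (Fin 3) (Fin 3) F) 0 0 ≠ (g : Matrix (Fin 3) (Fin 3) F) 1 1 → f (π g) ≠ 1 := by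
    intro g hg e
    have e' : π g = 1 := hf (by rw [e, map_one])
    obtain ⟨c, -, ec⟩ := Matrix.SpecialLinearGroup.mem_center_iff.1 ((QuotientGroup.eq_one_iff g).1 e')
    rw [← ec] at hg
    simp at hg
  have hD3 : D ^ 3 = 1 := by
    refine Subtype.ext ?_
    rw [Matrix.SpecialLinearGroup.coe_pow, pow_three]
    ext i j
    fin_cases i <;> fin_cases j <;> simp [D, Matrix.mul_apply, Fin.sum_univ_three]
    · linear_combination hw3
    · linear_combination ((w : F) * w * w + 1) * hw3
  have hP3 : P ^ 3 = 1 := by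
    refine Subtype.ext ?_
    rw [Matrix.SpecialLinearGroup.coe_pow, pow_three]
    ext i j
    fin_cases i <;> fin_cases j <;> simp [P, Matrix.mul_apply, Fin.sum_univ_three]
  have hcomm : Commute (π P) (π D) := by
    show π P * π D = π D * π P
    rw [← map_mul, ← map_mul]
    refine QuotientGroup.eq.2 ?_
    rw [Matrix.SpecialLinearGroup.mem_center_iff]
    refine ⟨(w : F) * w, by rw [Fintype.card_fin]; linear_combination ((w : F) * w * w + 1) * hw3, ?_⟩
    let S : Matrix.SpecialLinearGroup (Fin 3) F := ⟨Matrix.scalar (Fin 3) ((w : F) * w), by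
      rw [Matrix.scalar_apply, Matrix.det_diagonal, Finset.prod_const, Finset.card_univ, Fintype.card_fin]
      linear_combination ((w : F) * w * w + 1) * hw3⟩
    have key : (P * D)⁻¹ * (D * P) = S := by
      rw [inv_mul_eq_iff_eq_mul]
      refine Subtype.ext ?_
      simp only [Matrix.SpecialLinearGroup.coe_mul]
      ext i j
      fin_cases i <;> fin_cases j <;> simp [P, D, S, Matrix.mul_apply, Fin.sum_univ_three] <;> grind
    rw [key]
  have hz : ∀ k, k < 3 → f (π P) * f (π D) ^ k ≠ 1 := by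
    intro k hk
    rw [← map_pow, ← map_pow, ← map_mul, ← map_mul]
    apply hne
    left
    rw [Matrix.SpecialLinearGroup.coe_mul, Matrix.SpecialLinearGroup.coe_pow]
    interval_cases k <;> simp [P, D, pow_two, Matrix.mul_apply, Fin.sum_univ_three, w.ne_zero]
  have hy1 : f (π D) ^ 3 = 1 := by rw [← map_pow, ← map_pow, hD3, map_one, map_one]
  have hx1 : f (π P) ^ 3 = 1 := by rw [← map_pow, ← map_pow, hP3, map_one, map_one]
  refine two_eq_of_pair ρ (x := f (π P)) (y := f (π D)) (r := 3) ⟨1, rfl⟩ (hcomm.map f) hy1 (fun k => ?_)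
    (fun j hj0 hj => ?_) h2
  · refine hN _ 3 ⟨1, rfl⟩ ?_ ?_
    · rw [((hcomm.map f).pow_right k).mul_pow, hx1, one_mul, ← pow_mul, mul_comm, pow_mul, hy1, one_pow]
    · rw [pow_eq_pow_mod k hy1]
      exact hz _ (Nat.mod_lt _ (by norm_num))
  · refine hN _ 3 ⟨1, rfl⟩ ?_ ?_
    · rw [← pow_mul, mul_comm, pow_mul, hy1, one_pow]
    · rw [← map_pow, ← map_pow]
      apply hne
      right
      rw [Matrix.SpecialLinearGroup.coe_pow]
      interval_cases j <;> simp [D, pow_two, Matrix.mul_apply, Fin.sum_univ_three] <;> grind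

end Cfsg.Agent.CNStructure
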