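import Cfsg.Agent.CITPair.CN
import Cfsg.Agent.PrimeGraphCIT.Reduce
import Cfsg.Agent.S0205

/-!
# A CN-group without nilpotent normal subgroups has 2-groups as centralisers of involutions
-/

set_option autoImplicit false

namespace Cfsg.Agent.CNStructure

open Subgroup OddLocal OddLocal.CN
open Cfsg.Agent.Fg24.CT (Inv2)
open CITPair (cj cj_eq_self_iff conj_mem_cj card_cj cj_le_cj isPGroup_cj)

universe u

variable {G : Type u} [Group G] [Finite G]

omit [Finite G] in
theorem not_simple_comm {T : Type u} [Group T] [IsSimpleGroup T] (h : ¬ IsMulCommutative T) :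
    ∃ a b : T, a * b ≠ b * a := by
  by_contra! hh
  exact h ⟨⟨hh⟩⟩

/-- A non-abelian simple subgroup. -/
theorem exists_simple_subgroup (hns : ¬ Group.IsSolvable G) (hcn : Cfsg.IsCNGroup G)
    (hF : ∀ N : Subgroup G, N.Normal → Group.IsNilpotent N → N = ⊥) :
    ∃ T : Subgroup G, IsSimpleGroup T ∧ ¬ IsMulCommutative T := by
  have htop : (⊤ : Subgroup G).Normal ∧ (⊤ : Subgroup G) ≠ ⊥ := ⟨inferInstance, fun e => by
    haveI : Subsingleton G := Subgroup.subsingleton_iff.1 (subsingleton_of_bot_eq_top e.symm)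
    exact hns inferInstance⟩
  obtain ⟨N, hN⟩ := Set.Finite.exists_minimal
    (Set.toFinite {K : Subgroup G | K.Normal ∧ K ≠ ⊥}) ⟨⊤, htop⟩
  obtain ⟨⟨hNn, hN1⟩, hNmin⟩ := hN
  haveI := hNn
  haveI : Nontrivial N := (nontrivial_iff_ne_bot N).2 hN1
  -- no nilpotent normal subgroup in `N`
  have hFN : ∀ M : Subgroup N, M.Normal → Group.IsNilpotent M → M = ⊥ := by
    intro M hM hMnil
    by_contra hM1
    obtain ⟨p, hp, hpd⟩ := Nat.exists_prime_and_dvd (show Nat.card M ≠ 1 from
      fun e => hM1 (card_eq_one.1 e))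
    haveI := Fact.mk hp
    haveI := hM
    let P : Sylow p M := default
    have hPn : (P : Subgroup M).Normal :=
      ((Group.isNilpotent_of_finite_tfae (G := M)).out 0 3 (a := Group.IsNilpotent M)
        (b := ∀ (q : ℕ) (_ : Fact q.Prime) (S : Sylow q M), (S : Subgroup M).Normal)).1 hMnil p ‹_› P
    haveI := P.characteristic_of_normal hPn
    have hn : ((P : Subgroup M).map M.subtype).Normal := ConjAct.normal_of_characteristic_of_normal
    have hle : (P : Subgroup M).map M.subtype ≤ Cfsg.pCore p N := Core.le_pCore (P.2.map _)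
    have hch : (Cfsg.pCore p N).Characteristic := Core.pCore_characteristic
    have hp' : IsPGroup p ((Cfsg.pCore p N).map N.subtype) := Core.pCore_isPGroup.map _
    have hb := hF ((Cfsg.pCore p N).map N.subtype) ConjAct.normal_of_characteristic_of_normal
      hp'.isNilpotent
    rw [Subgroup.map_eq_bot_iff, ker_subtype, le_bot_iff] at hb
    rw [hb, le_bot_iff, Subgroup.map_eq_bot_iff, ker_subtype, le_bot_iff] at hle
    exact P.ne_bot_of_dvd_card hpd hle
  obtain ⟨T, hT⟩ := Set.Finite.exists_minimal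
    (Set.toFinite {K : Subgroup N | K.Normal ∧ K ≠ ⊥}) ⟨⊤, inferInstance, fun e => by
      haveI : Subsingleton N := Subgroup.subsingleton_iff.1 (subsingleton_of_bot_eq_top e.symm)
      exact not_subsingleton N inferInstance⟩
  obtain ⟨⟨hTn, hT1⟩, hTmin⟩ := hT
  haveI := hTn
  -- all conjugates of `T` equal `T`
  have hconj : ∀ g : G, T.map (MulAut.conjNormal g : MulAut N).toMonoidHom = T := by
    intro g
    set φ : MulAut N := MulAut.conjNormal g
    set T' := T.map φ.toMonoidHom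
    have hT'n : T'.Normal := hTn.map _ φ.surjective
    haveI := hT'n
    by_contra hne
    have hinf : T ⊓ T' = ⊥ := by
      by_contra hb
      have hle : T ≤ T ⊓ T' := hTmin ⟨inferInstance, hb⟩ inf_le_left
      exact hne (eq_of_le_of_card_ge (hle.trans inf_le_right)
        (le_of_eq (Nat.card_congr (T.equivMapOfInjective φ.toMonoidHom φ.injective).toEquiv).symm)).symm
    obtain ⟨a, ha, ha1⟩ := (bot_or_exists_ne_one T).resolve_left hT1
    have hle : T'.map N.subtype ≤ centralizer ({(a : G)} : Set G) := by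
      rintro _ ⟨b, hb, rfl⟩
      exact mem_centralizer_singleton_iff.2 (congrArg Subtype.val
        (Subgroup.commute_of_normal_of_disjoint T T' hTn hT'n (disjoint_iff.2 hinf) a b ha hb).symm.eq)
    have hnil : Group.IsNilpotent T' :=
      (Group.isNilpotent_congr (T'.equivMapOfInjective N.subtype N.subtype_injective)).2
        (Core.isNilpotent_mono (hcn (a : G) fun e => ha1 (Subtype.ext e)) hle)
    exact hT1 ((Subgroup.map_eq_bot_iff_of_injective T φ.injective).1 (hFN T' hT'n hnil))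
  have hTG : (T.map N.subtype).Normal := ⟨by
    rintro _ ⟨a, ha, rfl⟩ g
    refine ⟨MulAut.conjNormal g a, ?_, MulAut.conjNormal_apply g a⟩
    have hm := mem_map_of_mem (MulAut.conjNormal g : MulAut N).toMonoidHom ha
    rw [hconj g] at hm
    exact hm⟩
  have hTN : T = ⊤ := by
    have hle : N ≤ T.map N.subtype := hNmin ⟨hTG, fun e =>
      hT1 ((Subgroup.map_eq_bot_iff_of_injective T N.subtype_injective).1 e)⟩ (map_subtype_le T)
    refine eq_top_iff.2 fun x _ => ?_
    obtain ⟨a, ha, e⟩ := hle x.2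
    exact Subtype.ext e ▸ ha
  refine ⟨N, ⟨fun M hM => ?_⟩, fun hc => ?_⟩
  · by_cases hM1 : M = ⊥
    · exact Or.inl hM1
    · exact Or.inr (top_le_iff.1 (hTN ▸ hTmin ⟨hM, hM1⟩ (hTN ▸ le_top)))
  · exact hN1 (hF N hNn (@CommGroup.isNilpotent _
      { (inferInstance : Group N) with mul_comm := hc.is_comm.comm }))

omit [Finite G] in
open CITPair in
/-- Involutions of an embedded subgroup are conjugate in it. -/
theorem embedded_exists_conj [Finite G] {H : Subgroup G} (h : CITPair.Embedded H)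
    (hout : ∃ u : G, orderOf u = 2 ∧ u ∉ H) {t t' : G} (ht : t ∈ H) (ho : orderOf t = 2) (ht' : t' ∈ H)
    (ho' : orderOf t' = 2) : ∃ g ∈ H, g * t * g⁻¹ = t' := by
  classical
  obtain ⟨u, hu2, huH⟩ := hout
  have key : ∀ s ∈ H, orderOf s = 2 → ∃ g : G, g * s * g⁻¹ = u := by
    intro s hs hso
    have hs2 := mul_self_of_orderOf hso
    have hu := mul_self_of_orderOf hu2
    rcases Nat.even_or_odd (orderOf (s * u)) with ⟨k, hk⟩ | hodd
    · exfalso
      have hpos := orderOf_pos (s * u)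
      have hzo : orderOf ((s * u) ^ k) = 2 := by
        rw [orderOf_pow_of_dvd (by omega) ⟨2, by omega⟩, hk]
        exact Nat.div_eq_of_eq_mul_left (by omega) (by omega)
      obtain ⟨c1, c2⟩ := commute_mul_invol hs2 hu k (mul_self_of_orderOf hzo)
      exact huH (h.centralizer_le (h.centralizer_le hs hso c1.symm) hzo c2)
    · obtain ⟨c, hc⟩ := isConj_iff.1
        (Invol.isConj_of_odd hso hu2 hodd : IsConj s u)
      exact ⟨c, hc⟩
  obtain ⟨g, hg⟩ := key t ht ho
  obtain ⟨g', hg'⟩ := key t' ht' ho'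
  refine ⟨g'⁻¹ * g, h _ t ht ho ?_, ?_⟩
  · rw [show g'⁻¹ * g * t * (g'⁻¹ * g)⁻¹ = g'⁻¹ * (g * t * g⁻¹) * g' by group, hg, ← hg']
    simpa [mul_assoc] using ht'
  · rw [show g'⁻¹ * g * t * (g'⁻¹ * g)⁻¹ = g'⁻¹ * (g * t * g⁻¹) * g' by group, hg, ← hg']
    group

/-- Every involution of a CN-group without nilpotent normal subgroups has a `2`-group as centraliser. -/
theorem cit_of_cn (hns : ¬ Group.IsSolvable G) (hcn : Cfsg.IsCNGroup G)
    (hF : ∀ N : Subgroup G, N.Normal → Group.IsNilpotent N → N = ⊥) : PrimeGraphCIT.CIT G := by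
  haveI : Fact (Nat.Prime 2) := ⟨Nat.prime_two⟩
  intro t ht
  by_contra hnot
  have ht1 : t ≠ 1 := fun e => by rw [e, orderOf_one] at ht; omega
  have hCt : Group.IsNilpotent (centralizer ({t} : Set G)) := hcn t ht1
  obtain ⟨c, hc, hco, hc1⟩ : ∃ c ∈ centralizer ({t} : Set G), Odd (orderOf c) ∧ c ≠ 1 := by
    by_contra! h
    exact hnot (CITPair.isPGroup_of_no_odd h)
  obtain ⟨q, hq, hqd⟩ := Nat.exists_prime_and_dvd (mt orderOf_eq_one_iff.1 hc1)
  have hq2 : q ≠ 2 := by
    rintro rfl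
    exact Nat.not_even_iff_odd.2 hco (even_iff_two_dvd.2 hqd)
  set y := c ^ (orderOf c / q) with hy
  have hyo : orderOf y = q := by
    rw [hy, orderOf_pow_of_dvd _ (Nat.div_dvd_of_dvd hqd), Nat.div_div_self hqd (orderOf_pos c).ne']
    exact (Nat.div_pos (Nat.le_of_dvd (orderOf_pos c) hqd) hq.pos).ne'
  have hyt : y ∈ centralizer ({t} : Set G) := pow_mem hc _
  obtain ⟨P, hP⟩ := (IsPGroup.of_card (n := 1) (G := zpowers t)
    (by rw [Nat.card_zpowers, ht, pow_one])).exists_le_sylow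
  have htP : t ∈ (P : Subgroup G) := hP (mem_zpowers t)
  obtain ⟨z₀, hz₀, hz₀1, hz₀C⟩ := exists_central P.2.isNilpotent
    (fun e => ht1 (mem_bot.1 (e ▸ htP)))
  obtain ⟨i, hi⟩ := CITPair.exists_pow_orderOf_two P.2 hz₀ hz₀1
  set z := z₀ ^ i with hz
  have hz1 : z ≠ 1 := fun e => by rw [e, orderOf_one] at hi; omega
  have hzP : z ∈ (P : Subgroup G) := pow_mem hz₀ i
  have hzC : (P : Subgroup G) ≤ centralizer ({z} : Set G) := fun x hx =>
    mem_centralizer_singleton_iff.2 (Commute.pow_right (mem_centralizer_singleton_iff.1 (hz₀C hx)) i)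
  have hyz : y ∈ centralizer ({z} : Set G) := mem_centralizer_singleton_iff.2
    (commute_of_mem hCt hyt (mem_centralizer_singleton_iff.2
      (mem_centralizer_singleton_iff.1 (hzC htP)).symm) (by
        rw [hyo, hi]
        exact (Nat.coprime_primes hq Nat.prime_two).2 hq2))
  have hA := CITPair.anchor_centralizer hcn P hzP hz1 hzC hq hq2 hyo hyz
  set H := centralizer ({z} : Set G) with hH
  haveI := hA.nilpotent
  have hHtop : H ≠ ⊤ := fun e => by
    haveI : Group.IsNilpotent G := nilpotent_of_mulEquiv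
      ((MulEquiv.subgroupCongr e).trans topEquiv)
    exact hns inferInstance
  set N := normalizer (H : Set G) with hN
  have hNtop : N ≠ ⊤ := fun e => hA.ne_bot (hF H (normalizer_eq_top_iff.1 e) hA.nilpotent)
  have hti : ∀ g x : G, x ∈ H → x ≠ 1 → g * x * g⁻¹ ∈ H → g ∈ N := fun g x hx hx1 hgx =>
    cj_eq_self_iff.1 ((hA.map_conj g).eq_of_common hA (h := g * x * g⁻¹) (conj_mem_cj hx) hgx
      (fun e => hx1 (conj_eq_one_iff.1 e)))
  have hinvol : ∀ x ∈ N, orderOf x = 2 → x ∈ H := by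
    intro x hxN hx
    have hxp : IsPGroup 2 (zpowers x) :=
      IsPGroup.of_card (n := 1) (by rw [Nat.card_zpowers, hx, pow_one])
    have hPn : N ≤ normalizer ((P : Subgroup G) : Set G) := fun g hg => by
      refine cj_eq_self_iff.1 (eq_of_le_of_card_ge (fun u hu => ?_) (le_of_eq (card_cj g _).symm))
      have huH : u ∈ H := (cj_eq_self_iff.2 hg).le (cj_le_cj hzC hu)
      exact mem_sylow_of_nilpotent hA.nilpotent P hzC huH (isPGroup_zpowers (isPGroup_cj P.2) hu)
    exact hzC (le_sylow_of_le_normalizer P hxp (zpowers_le.2 (hPn hxN)) (mem_zpowers x))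
  have hE : CITPair.Embedded N := fun g x hx hxo hgx => hti g x (hinvol x hx hxo)
    (fun e => by rw [e, orderOf_one] at hxo; omega)
    (hinvol _ hgx (by rw [← MulAut.conj_apply, MulEquiv.orderOf_eq, hxo]))
  have hzH : z ∈ H := mem_centralizer_singleton_iff.2 rfl
  have hout : ∃ u : G, orderOf u = 2 ∧ u ∉ N := by
    by_contra! hall
    have hle : normalClosure ({z} : Set G) ≤ H := by
      rw [normalClosure, closure_le]
      intro v hv
      obtain ⟨a, rfl, hc⟩ := Group.mem_conjugatesOfSet_iff.1 hv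
      obtain ⟨c, rfl⟩ := isConj_iff.1 hc
      have hvo : orderOf (c * z * c⁻¹) = 2 := by rw [← MulAut.conj_apply, MulEquiv.orderOf_eq, hi]
      exact hinvol _ (hall _ hvo) hvo
    exact hz1 (mem_bot.1 (hF _ normalClosure_normal (Core.isNilpotent_mono hA.nilpotent hle) ▸
      subset_normalClosure rfl))
  have hcent : ∀ x ∈ H, orderOf x = 2 → ∀ u ∈ H, Commute u x := by
    intro x hx hxo u hu
    obtain ⟨k, hk, hkx⟩ := embedded_exists_conj hE hout (le_normalizer hzH) hi (le_normalizer hx) hxo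
    have hu' : k⁻¹ * u * k ∈ H := (mem_normalizer_iff''.1 hk u).1 hu
    have := (Commute.conj_iff k).2 (show Commute (k⁻¹ * u * k) z from
      mem_centralizer_singleton_iff.1 hu')
    rw [hkx] at this
    simpa [mul_assoc] using this
  obtain ⟨T, hTs, hTna⟩ := exists_simple_subgroup hns hcn hF
  haveI := hTs
  obtain ⟨S₀, a₀, b₀, ha₀, hb₀, ha02, hb02, hab₀⟩ := CITPair.exists_klein_sylow (not_simple_comm hTna)
  obtain ⟨S', hS'⟩ := (S₀.2.map T.subtype).exists_le_sylow
  have hinj : ∀ x : T, Inv2 x → Inv2 (x : G) := fun x hx =>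
    ⟨fun e => hx.1 (Subtype.ext e), congrArg Subtype.val hx.2⟩
  have ha : (a₀ : G) ∈ (S' : Subgroup G) := hS' (mem_map_of_mem _ ha₀)
  have hb : (b₀ : G) ∈ (S' : Subgroup G) := hS' (mem_map_of_mem _ hb₀)
  obtain ⟨g, hg⟩ := MulAction.exists_smul_eq G S' P
  have hmem : ∀ x ∈ (S' : Subgroup G), g * x * g⁻¹ ∈ H := fun x hx => hzC (by
    rw [← hg]; exact conj_mem_cj (g := g) hx)
  have hyp : SuzukiTI.Hyp H := by
    refine ⟨hNtop, ⟨g * a₀ * g⁻¹, g * b₀ * g⁻¹, hmem _ ha, hmem _ hb, (hinj _ ha02).conj g,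
      (hinj _ hb02).conj g, fun e => hab₀ (Subtype.ext (mul_left_cancel (mul_right_cancel e)))⟩,
      fun x hx hx2 => ?_, hA.cent⟩
    exact le_antisymm (hA.cent x hx hx2.1) fun u hu =>
      mem_centralizer_singleton_iff.2 (hcent x hx (SuzukiTI.orderOf_inv2 hx2) u hu).eq
  have := CITPair.eq_one_of_odd_mem hyp.isPGroup hyz (by rw [hyo]; exact hq.odd_of_ne_two hq2)
  rw [this, orderOf_one] at hyo
  exact hq.one_lt.ne hyo

end Cfsg.Agent.CNStructure
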