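import Cfsg.Agent.SL2Class.Basic

/-!
# Classes of elements of order three and five in `PSL(2, q)`, `q` odd
-/

set_option autoImplicit false

namespace Cfsg.Agent.CNStructure

open Matrix SL2Class

variable {F : Type*} [Field F] [Fintype F]

local notation "SG" => Matrix.SpecialLinearGroup (Fin 2) F
local notation "PG" => Matrix.ProjectiveSpecialLinearGroup (Fin 2) F
local notation:1024 "↥ₘ" A:1024 => ((A : Matrix.SpecialLinearGroup (Fin 2) F) : Matrix (Fin 2) (Fin 2) F)

omit [Fintype F] in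
theorem center_cases {g : SG} (hg : g ∈ Subgroup.center SG) : g = 1 ∨ g = -1 := by
  obtain ⟨c, hc, e⟩ := Matrix.SpecialLinearGroup.mem_center_iff.1 hg
  rw [Fintype.card_fin, sq_eq_one_iff] at hc
  rcases hc with rfl | rfl
  · left; refine Subtype.ext ?_; rw [← e]; simp
  · right; refine Subtype.ext ?_; rw [← e]; ext i j; fin_cases i <;> fin_cases j <;> simp

omit [Fintype F] in
theorem neg_one_mem_center : (-1 : SG) ∈ Subgroup.center SG := by
  rw [Subgroup.mem_center_iff]
  intro h
  refine Subtype.ext ?_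
  simp

omit [Fintype F] in
/-- A lift of the same odd order. -/
theorem exists_lift (x : PG) {r : ℕ} (hr : Odd r) (hx : x ^ r = 1) (hx1 : x ≠ 1) :
    ∃ g : SG, (QuotientGroup.mk g : PG) = x ∧ g ^ r = 1 ∧ NonScalar g := by
  obtain ⟨g, rfl⟩ := QuotientGroup.mk_surjective x
  have hns : NonScalar g := by
    rintro ⟨h1, h2, h3⟩
    refine hx1 ((QuotientGroup.eq_one_iff g).2 ?_)
    rw [Subgroup.mem_center_iff]
    intro h
    refine Subtype.ext ?_
    simp only [Matrix.SpecialLinearGroup.coe_mul]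
    ext i j
    fin_cases i <;> fin_cases j <;> simp [Matrix.mul_apply, Fin.sum_univ_two, h1, h2, h3, mul_comm]
  have hm : g ^ r ∈ Subgroup.center SG := by
    rw [← QuotientGroup.eq_one_iff, QuotientGroup.mk_pow]; exact hx
  rcases center_cases hm with e | e
  · exact ⟨g, rfl, e, hns⟩
  · refine ⟨-g, ?_, by rw [hr.neg_pow, e, neg_neg], ?_⟩
    · rw [QuotientGroup.eq]
      have h1 : (-g)⁻¹ * g = -1 := by
        rw [inv_mul_eq_iff_eq_mul]
        exact Subtype.ext (by simp)
      rw [h1]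
      exact neg_one_mem_center
    · rintro ⟨h1, h2, h3⟩
      exact hns ⟨by simpa using h1, by simpa using h2, by simpa using h3⟩

theorem trace_three {g : SG} (hg : NonScalar g) (h : g ^ 3 = 1) : tr g = -1 := by
  have h' : ↥ₘ g * ↥ₘ g * ↥ₘ g = 1 := by
    have := congrArg (fun A : SG => ↥ₘ A) h
    simpa [pow_succ] using this
  rw [g_sq] at h'
  have e := lin_mul g (-1) (tr g) 0 1
  rw [lin_self] at e
  rw [e, ← lin_one g] at h'
  obtain ⟨h1, -⟩ := lin_ext hg h'
  linear_combination -h1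

theorem trace_five {g : SG} (hg : NonScalar g) (h : g ^ 5 = 1) : tr g * tr g + tr g - 1 = 0 := by
  have h' : (↥ₘ g * ↥ₘ g) * (↥ₘ g * ↥ₘ g) * ↥ₘ g = 1 := by
    have := congrArg (fun A : SG => ↥ₘ A) h
    simpa [pow_succ, mul_assoc] using this
  rw [g_sq, lin_mul] at h'
  have e := lin_mul g (-1 * -1 - tr g * tr g) (-1 * tr g + tr g * -1 + tr g * tr g * tr g) 0 1
  rw [lin_self] at e
  rw [e, ← lin_one g] at h'
  obtain ⟨h1, h2⟩ := lin_ext hg h'
  linear_combination -h2 - (tr g) * h1

theorem psl_isConj {g h : SG} (hg : NonScalar g) (hh : NonScalar h) (ht : tr g = tr h)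
    (hd : tr g * tr g ≠ 4) : IsConj (QuotientGroup.mk g : PG) (QuotientGroup.mk h : PG) :=
  (QuotientGroup.mk' (Subgroup.center SG)).map_isConj (isConj_of_tr hg hh ht (Or.inl hd))

/-- One class of elements of order three. -/
theorem psl_three (h3 : (3 : F) ≠ 0) (a b : PG) (ha : orderOf a = 3) (hb : orderOf b = 3) : IsConj a b := by
  have key : ∀ x : PG, orderOf x = 3 → ∃ g : SG, (QuotientGroup.mk g : PG) = x ∧ NonScalar g ∧ tr g = -1 := by
    intro x hx
    obtain ⟨g, hg, hg3, hns⟩ := exists_lift x ⟨1, rfl⟩ (by rw [show 2 * 1 + 1 = 3 from rfl, ← hx, pow_orderOf_eq_one])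
      (fun e => by rw [e, orderOf_one] at hx; omega)
    exact ⟨g, hg, hns, trace_three hns hg3⟩
  obtain ⟨g, rfl, hg, tg⟩ := key a ha
  obtain ⟨h, rfl, hh, th⟩ := key b hb
  exact psl_isConj hg hh (tg.trans th.symm) (by rw [tg]; exact fun e => h3 (by linear_combination -e))

/-- Two real classes of elements of order five. -/
theorem psl_five (h5 : (5 : F) ≠ 0) :
    (∀ a : PG, orderOf a = 5 → IsConj a a⁻¹) ∧
      ∀ a b c : PG, orderOf a = 5 → orderOf b = 5 → orderOf c = 5 → IsConj a b ∨ IsConj a c ∨ IsConj b c := by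
  have key : ∀ x : PG, orderOf x = 5 → ∃ g : SG, (QuotientGroup.mk g : PG) = x ∧ NonScalar g ∧
      tr g * tr g + tr g - 1 = 0 ∧ tr g * tr g ≠ 4 := by
    intro x hx
    obtain ⟨g, hg, hg5, hns⟩ := exists_lift x ⟨2, rfl⟩ (by rw [show 2 * 2 + 1 = 5 from rfl, ← hx, pow_orderOf_eq_one])
      (fun e => by rw [e, orderOf_one] at hx; omega)
    have ht := trace_five hns hg5
    exact ⟨g, hg, hns, ht, fun e => h5 (by linear_combination e - (tr g - 3) * (ht - e))⟩
  refine ⟨fun a ha => ?_, fun a b c ha hb hc => ?_⟩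
  · obtain ⟨g, rfl, hg, -, hd⟩ := key a ha
    have ht : tr g⁻¹ = tr g := by
      simp only [tr, inv_eq, lin_apply]
      simp
      ring
    have hi : NonScalar g⁻¹ := by
      rintro ⟨h1, h2, h3⟩
      simp only [inv_eq, lin_apply] at h1 h2 h3
      simp at h1 h2 h3
      exact hg ⟨h1, h2, h3⟩
    exact psl_isConj hg hi ht.symm hd
  · obtain ⟨f, rfl, hf, tf, df⟩ := key a ha
    obtain ⟨g, rfl, hg, tg, dg⟩ := key b hb
    obtain ⟨h, rfl, hh, th, -⟩ := key c hc
    rcases eq_or_ne (tr f) (tr g) with e | e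
    · exact Or.inl (psl_isConj hf hg e df)
    rcases eq_or_ne (tr f) (tr h) with e' | e'
    · exact Or.inr (Or.inl (psl_isConj hf hh e' df))
    refine Or.inr (Or.inr (psl_isConj hg hh ?_ dg))
    have h1 : tr f + tr g = -1 := by
      apply mul_left_cancel₀ (sub_ne_zero.2 e)
      linear_combination tf - tg
    have h2 : tr f + tr h = -1 := by
      apply mul_left_cancel₀ (sub_ne_zero.2 e')
      linear_combination tf - th
    linear_combination h1 - h2

end Cfsg.Agent.CNStructure
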