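import Cfsg.Agent.OddLocal.CNSolvable
import Cfsg.Agent.Core.PCore
import Cfsg.Agent.PrimeGraphCIT.Reduce
import Cfsg.Agent.S0205

/-!
# The 2-core of a nonsolvable CN-group
-/

set_option autoImplicit false

namespace Cfsg.Agent.CNStructure

open Subgroup OddLocal.CN


universe u

variable {G : Type u} [Group G] [Finite G]

theorem commute_odd_two {K : Subgroup G} (hK : Group.IsNilpotent K) {x t : G} (hx : x ∈ K) (ht : t ∈ K)
    (hxo : Odd (orderOf x)) (hto : ∃ k, orderOf t = 2 ^ k) : Commute x t := by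
  obtain ⟨k, hk⟩ := hto
  refine OddLocal.commute_of_mem hK hx ht ?_
  rw [hk]
  exact Nat.Coprime.pow_right _ (Nat.coprime_two_right.2 hxo)

omit [Finite G] in
theorem two_pow_of_mem {Q : Subgroup G} (hQ : IsPGroup 2 Q) {t : G} (ht : t ∈ Q) : ∃ k, orderOf t = 2 ^ k := by
  haveI : Fact (Nat.Prime 2) := ⟨Nat.prime_two⟩
  obtain ⟨k, hk⟩ := IsPGroup.iff_orderOf.1 hQ ⟨t, ht⟩
  exact ⟨k, by rwa [Subgroup.orderOf_mk] at hk⟩

/-- A nonsolvable CN-group with a solvable normal subgroup has a nontrivial 2-core. -/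
theorem two_core_ne_bot (hns : ¬ Group.IsSolvable G) (hcn : Cfsg.IsCNGroup G) (R : Subgroup G) [R.Normal]
    (hR : Group.IsSolvable R) (hR1 : R ≠ ⊥) : Cfsg.pCore 2 G ≠ ⊥ := by
  classical
  haveI : Fact (Nat.Prime 2) := ⟨Nat.prime_two⟩
  intro hQ
  obtain ⟨E, hEn, hE1, hEc⟩ := PrimeGraphCIT.exists_abelian_normal R hR hR1
  haveI := hEn
  obtain ⟨e₀, he₀, he₀1⟩ := (bot_or_exists_ne_one E).resolve_left hE1
  set C := centralizer (E : Set G) with hC
  haveI : C.Normal := inferInstance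
  have hCn : Group.IsNilpotent C := Core.isNilpotent_mono (hcn e₀ he₀1)
    (centralizer_le (Set.singleton_subset_iff.2 he₀))
  have hEC : E ≤ C := fun a ha b hb => hEc b hb a ha
  -- `C` has odd order
  have hCodd : ¬ 2 ∣ Nat.card C := by
    intro hd
    let P : Sylow 2 C := default
    have hPn : (P : Subgroup C).Normal :=
      ((Group.isNilpotent_of_finite_tfae (G := C)).out 0 3 (a := Group.IsNilpotent C)
        (b := ∀ (q : ℕ) (_ : Fact q.Prime) (S : Sylow q C), (S : Subgroup C).Normal)).1 hCn 2 ‹_› P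
    haveI := P.characteristic_of_normal hPn
    have hn : ((P : Subgroup C).map C.subtype).Normal := ConjAct.normal_of_characteristic_of_normal
    have hle : (P : Subgroup C).map C.subtype ≤ Cfsg.pCore 2 G := Core.le_pCore (P.2.map _)
    rw [hQ, le_bot_iff, Subgroup.map_eq_bot_iff, ker_subtype, le_bot_iff] at hle
    exact P.ne_bot_of_dvd_card hd hle
  have hodd : ∀ c ∈ C, Odd (orderOf c) := fun c hc =>
    Odd.of_dvd_nat (Nat.odd_iff.2 (Nat.two_dvd_ne_zero.1 hCodd)) (by
      rw [← Subgroup.orderOf_mk c hc]; exact orderOf_dvd_natCard _)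
  obtain ⟨t, ht⟩ := exists_prime_orderOf_dvd_card' (G := G) 2 (by
    by_contra hd
    exact hns (Cfsg.Agent.S0205.result (Nat.odd_iff.2 (Nat.two_dvd_ne_zero.1 hd))))
  -- involutions act without fixed points on `C`
  have hfpf : ∀ u : G, orderOf u = 2 → ∀ c ∈ C, Commute c u → c = 1 := by
    intro u hu c hc hcu
    by_contra hc1
    have hE : ∀ e ∈ E, Commute e u := fun e he =>
      commute_odd_two (hcn c hc1) (mem_centralizer_singleton_iff.2 (hc e he))
        (mem_centralizer_singleton_iff.2 hcu.symm.eq) (hodd e (hEC he)) ⟨1, by rw [hu, pow_one]⟩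
    have huC : u ∈ C := fun e he => (hE e he).eq
    exact hCodd (hu ▸ (Subgroup.orderOf_mk u huC).symm.dvd.trans (orderOf_dvd_natCard _))
  have hinv : ∀ u : G, orderOf u = 2 → ∀ a ∈ E, u * a * u⁻¹ = a⁻¹ := by
    intro u hu a ha
    have hua : u * a * u⁻¹ ∈ E := hEn.conj_mem a ha u
    have hu2 : u * u = 1 := by rw [← pow_two, ← hu, pow_orderOf_eq_one]
    have hfix : u * (a * (u * a * u⁻¹)) * u⁻¹ = a * (u * a * u⁻¹) := by
      have : u * (a * (u * a * u⁻¹)) * u⁻¹ = (u * a * u⁻¹) * a := by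
        simp only [inv_eq_of_mul_eq_one_right hu2]
        calc u * (a * (u * a * u)) * u = u * a * u * a * (u * u) := by group
          _ = _ := by rw [hu2, mul_one]
      rw [this, ← hEc a ha _ hua]
    exact eq_inv_of_mul_eq_one_right
      (hfpf u hu _ (hEC (E.mul_mem ha hua)) (mul_inv_eq_iff_eq_mul.1 hfix).symm)
  have hti : t⁻¹ = t := inv_eq_of_mul_eq_one_right (by rw [← pow_two, ← ht, pow_orderOf_eq_one])
  have hcong : ∀ g : G, g * t * g⁻¹ * t⁻¹ ∈ C := by
    intro g a ha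
    have htt : orderOf (g * t * g⁻¹) = 2 := by rw [← MulAut.conj_apply, MulEquiv.orderOf_eq, ht]
    have e1 := hinv _ ht a ha
    have e2 := hinv _ htt a⁻¹ (E.inv_mem ha)
    rw [inv_inv] at e2
    symm
    rw [← mul_inv_eq_iff_eq_mul, hti]
    calc g * t * g⁻¹ * t * a * (g * t * g⁻¹ * t)⁻¹
        = g * t * g⁻¹ * (t * a * t⁻¹) * (g * t * g⁻¹)⁻¹ := by group
      _ = a := by rw [e1, e2]
  let f : C → C := fun c => ⟨c.1 * t * c.1⁻¹ * t⁻¹, hcong c.1⟩
  have hf : Function.Bijective f := Finite.injective_iff_bijective.1 fun a b hab => by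
    have h1 : (a : G) * t * (a : G)⁻¹ = b * t * (b : G)⁻¹ := mul_right_cancel (congrArg Subtype.val hab)
    have hc : Commute ((b : G)⁻¹ * a) t := (show t * ((b : G)⁻¹ * a) = (b : G)⁻¹ * a * t by
      calc t * ((b : G)⁻¹ * a) = (b : G)⁻¹ * ((b : G) * t * (b : G)⁻¹) * a := by group
        _ = _ := by rw [← h1]; group).symm
    exact Subtype.ext (inv_mul_eq_one.1 (hfpf t ht _ (C.mul_mem (C.inv_mem b.2) a.2) hc)).symm
  have hsurj : Function.Surjective
      ((QuotientGroup.mk' C).comp (centralizer ({t} : Set G)).subtype) := by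
    intro q
    obtain ⟨g, rfl⟩ := QuotientGroup.mk_surjective q
    obtain ⟨d, hd⟩ := hf.2 ⟨g * t * g⁻¹ * t⁻¹, hcong g⟩
    have hd' : (d : G) * t * (d : G)⁻¹ = g * t * g⁻¹ := mul_right_cancel (congrArg Subtype.val hd)
    refine ⟨⟨(d : G)⁻¹ * g, mem_centralizer_singleton_iff.2 (by
      calc (d : G)⁻¹ * g * t = (d : G)⁻¹ * (g * t * g⁻¹) * g := by group
        _ = _ := by rw [← hd']; group)⟩, ?_⟩
    simp [(QuotientGroup.eq_one_iff (d : G)).2 d.2]
  haveI := hcn t (fun e => by rw [e, orderOf_one] at ht; omega)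
  haveI : Group.IsSolvable (G ⧸ C) := Group.isSolvable_of_surjective hsurj
  haveI := hCn
  exact hns (Group.isSolvable_of_ker_le_range C.subtype (QuotientGroup.mk' C)
    (by rw [QuotientGroup.ker_mk', Subgroup.range_subtype]))

/-- The involutions and the identity in the centre of the 2-core. -/
def omegaCenter (Q : Subgroup G) : Subgroup G where
  carrier := {z | z ∈ Q ∧ (∀ q ∈ Q, q * z = z * q) ∧ z * z = 1}
  one_mem' := ⟨Q.one_mem, fun q _ => by simp, one_mul 1⟩
  mul_mem' := by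
    rintro a b ⟨ha, hac, ha2⟩ ⟨hb, hbc, hb2⟩
    refine ⟨Q.mul_mem ha hb, fun q hq => by rw [← mul_assoc, hac q hq, mul_assoc, hbc q hq, mul_assoc], ?_⟩
    calc a * b * (a * b) = a * (b * a) * b := by group
      _ = a * (a * b) * b := by rw [hac b hb]
      _ = (a * a) * (b * b) := by group
      _ = 1 := by rw [ha2, hb2, mul_one]
  inv_mem' := by
    rintro a ⟨ha, hac, ha2⟩
    rw [inv_eq_of_mul_eq_one_right ha2]
    exact ⟨ha, hac, ha2⟩

omit [Finite G] in
theorem omegaCenter_normal (Q : Subgroup G) [hQ : Q.Normal] : (omegaCenter Q).Normal := ⟨by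
  rintro z ⟨hz, hc, h2⟩ g
  refine ⟨hQ.conj_mem z hz g, fun q hq => ?_, ?_⟩
  · have := congrArg (fun v => g * v * g⁻¹) (hc _ (hQ.conj_mem' q hq g))
    simpa [mul_assoc] using this
  · calc g * z * g⁻¹ * (g * z * g⁻¹) = g * (z * z) * g⁻¹ := by group
      _ = 1 := by rw [h2, mul_one, mul_inv_cancel]⟩

theorem omegaCenter_ne_bot {Q : Subgroup G} (hQ : IsPGroup 2 Q) (hQ1 : Q ≠ ⊥) : omegaCenter Q ≠ ⊥ := by
  haveI : Fact (Nat.Prime 2) := ⟨Nat.prime_two⟩
  obtain ⟨z, hz, hz1, hzC⟩ := exists_central hQ.isNilpotent hQ1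
  obtain ⟨k, hk⟩ := two_pow_of_mem hQ hz
  rcases k with _ | k
  · exact absurd (orderOf_eq_one_iff.1 (by rw [hk, pow_zero])) hz1
  intro e
  have hw : z ^ 2 ^ k ∈ omegaCenter Q := ⟨pow_mem hz _, fun q hq =>
    (show Commute q z from mem_centralizer_singleton_iff.1 (hzC hq)).pow_right _,
    by rw [← pow_add, ← two_mul, ← pow_succ', ← hk, pow_orderOf_eq_one]⟩
  rw [e, mem_bot] at hw
  have := orderOf_dvd_of_pow_eq_one hw
  rw [hk] at this
  have := Nat.le_of_dvd (by positivity) this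
  have := Nat.pow_lt_pow_succ (a := 2) (n := k) (by norm_num)
  omega

/-- Every element of odd order acts fixed-point-freely on the 2-core. -/
theorem odd_fpf (hns : ¬ Group.IsSolvable G) (hcn : Cfsg.IsCNGroup G) (Q : Subgroup G) [hQn : Q.Normal]
    (hQ : IsPGroup 2 Q) (hQ1 : Q ≠ ⊥) {x : G} (hx : Odd (orderOf x)) (hx1 : x ≠ 1) {q : G} (hq : q ∈ Q)
    (hc : x * q * x⁻¹ = q) : q = 1 := by
  classical
  haveI : Fact (Nat.Prime 2) := ⟨Nat.prime_two⟩
  by_contra hq1
  set V := omegaCenter Q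
  haveI hVn : V.Normal := omegaCenter_normal Q
  have hxq : x ∈ centralizer ({q} : Set G) := mem_centralizer_singleton_iff.2 (mul_inv_eq_iff_eq_mul.1 hc)
  have hxV : ∀ v ∈ V, Commute x v := fun v hv =>
    commute_odd_two (hcn q hq1) hxq (mem_centralizer_singleton_iff.2 (hv.2.1 q hq).symm) hx
      (two_pow_of_mem hQ hv.1)
  -- every conjugate of `x` centralises `V`
  have hxgV : ∀ g : G, ∀ v ∈ V, Commute (g * x * g⁻¹) v := by
    intro g v hv
    have := (Commute.conj_iff g).2 (hxV _ (hVn.conj_mem' v hv g))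
    simpa [mul_assoc] using this
  let K : Subgroup G := centralizer (Set.range fun g : G => g * x * g⁻¹)
  haveI : K.Normal := ⟨by
    rintro k hk g _ ⟨h, rfl⟩
    have h1 := hk _ ⟨g⁻¹ * h, rfl⟩
    have h2 := congrArg (fun v => g * v * g⁻¹) h1
    simpa [mul_assoc] using h2⟩
  have hKn : Group.IsNilpotent K := Core.isNilpotent_mono (hcn x hx1) fun k hk =>
    mem_centralizer_singleton_iff.2 (hk _ ⟨1, by simp⟩).symm
  -- every 2-element lies in `K`
  have htwo : ∀ t : G, (∃ k, orderOf t = 2 ^ k) → t ∈ K := by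
    rintro t ⟨k, hk⟩
    obtain ⟨v, hv, hv1, hvt⟩ : ∃ v ∈ V, v ≠ 1 ∧ Commute t v := by
      by_contra! hno
      have hVp : IsPGroup 2 V := hQ.to_le fun z hz => hz.1
      have htp : IsPGroup 2 (zpowers t) := IsPGroup.of_card (n := k) (by rw [Nat.card_zpowers, hk])
      have := card_modEq_fixed_one (r := 2) htp hVn fun v hv hfix => by
        by_contra hv1
        exact hno v hv hv1 (hfix t (mem_zpowers t))
      obtain ⟨j, hj⟩ := hVp.exists_card_eq
      have hj0 : j ≠ 0 := fun e => omegaCenter_ne_bot hQ hQ1 (card_eq_one.1 (by rw [hj, e, pow_zero]))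
      rw [hj, Nat.ModEq, Nat.mod_eq_zero_of_dvd (dvd_pow_self 2 hj0)] at this
      norm_num at this
    rintro _ ⟨g, rfl⟩
    exact (commute_odd_two (hcn v hv1) (mem_centralizer_singleton_iff.2 (hxgV g v hv).eq)
      (mem_centralizer_singleton_iff.2 hvt.eq)
      (by rw [← MulAut.conj_apply, MulEquiv.orderOf_eq]; exact hx) ⟨k, hk⟩).eq
  have hodd : Odd (Nat.card (G ⧸ K)) := by
    rw [Nat.odd_iff, ← Nat.two_dvd_ne_zero, ← Subgroup.index_eq_card]
    intro hd
    obtain ⟨S⟩ : Nonempty (Sylow 2 G) := inferInstance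
    exact S.not_dvd_index (hd.trans (Subgroup.index_dvd_of_le fun t ht => htwo t (two_pow_of_mem S.2 ht)))
  haveI := Cfsg.Agent.S0205.result hodd
  haveI := hKn
  exact hns (Group.isSolvable_of_ker_le_range K.subtype (QuotientGroup.mk' K)
    (by rw [QuotientGroup.ker_mk', Subgroup.range_subtype]))

/-- The quotient by the 2-core is again a nonsolvable CN-group without solvable normal subgroups. -/
theorem quotient_core (hns : ¬ Group.IsSolvable G) (hcn : Cfsg.IsCNGroup G) :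
    ¬ Group.IsSolvable (G ⧸ Cfsg.pCore 2 G) ∧ Cfsg.IsCNGroup (G ⧸ Cfsg.pCore 2 G) ∧
      ∀ N : Subgroup (G ⧸ Cfsg.pCore 2 G), N.Normal → Group.IsSolvable N → N = ⊥ := by
  haveI : Fact (Nat.Prime 2) := ⟨Nat.prime_two⟩
  haveI hnil := (Core.pCore_isPGroup (p := 2) (G := G)).isNilpotent
  have h1 : ¬ Group.IsSolvable (G ⧸ Cfsg.pCore 2 G) := fun hs => hns
    (Group.isSolvable_of_ker_le_range (Cfsg.pCore 2 G).subtype (QuotientGroup.mk' (Cfsg.pCore 2 G))
      (by rw [QuotientGroup.ker_mk', Subgroup.range_subtype]))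
  have h2 : Cfsg.IsCNGroup (G ⧸ Cfsg.pCore 2 G) :=
    isCNGroup_quotient (Nat.card G) G rfl hcn _ inferInstance
  refine ⟨h1, h2, fun N hN hs => ?_⟩
  by_contra hne
  haveI := hN
  exact two_core_ne_bot h1 h2 N hs hne Core.pCore_quotient_eq_bot

end Cfsg.Agent.CNStructure
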