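import Cfsg.Agent.CNStructure.Outer

/-!
# CIT groups over a simple subgroup whose Sylow 5- and 7-subgroups have prime order
-/

set_option autoImplicit false

namespace Cfsg.Agent.CNStructure

open Subgroup
open PrimeGraphCIT (CIT)

section Simple

variable {T : Type*} [Group T] [Finite T] [IsSimpleGroup T]

/-- Data on a subgroup of prime order `r` dividing the order exactly once. -/
theorem sylow_prime_data {r : ℕ} (hr : r.Prime) (hd : r ∣ Nat.card T) (hd2 : ¬ r ^ 2 ∣ Nat.card T)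
    (hne : Nat.card T ≠ r) :
    ∃ a : T, orderOf a = r ∧ (∀ b : T, orderOf b = r → ∃ c : T, c * b * c⁻¹ ∈ zpowers a) ∧
      ∃ x : T, x * a * x⁻¹ ∈ zpowers a ∧ x * a * x⁻¹ ≠ a := by
  haveI := Fact.mk hr
  obtain ⟨a, ha⟩ := exists_prime_orderOf_dvd_card' (G := T) r hd
  have hA : IsPGroup r (zpowers a) := IsPGroup.of_card (n := 1) (by rw [Nat.card_zpowers, ha, pow_one])
  obtain ⟨P, hP⟩ := hA.exists_le_sylow
  have hcard : Nat.card P = r := by
    obtain ⟨j, hj⟩ := P.2.exists_card_eq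
    have hd1 : r ^ j ∣ Nat.card T := hj ▸ card_subgroup_dvd_card _
    have hj1 : j ≤ 1 := by
      by_contra h
      exact hd2 ((pow_dvd_pow r (by omega)).trans hd1)
    have hj0 : j ≠ 0 := fun e => by
      have := card_dvd_of_le hP
      rw [Nat.card_zpowers, ha, hj, e, pow_zero, Nat.dvd_one] at this
      exact hr.one_lt.ne' this
    rw [hj, show j = 1 by omega, pow_one]
  have hPa : (P : Subgroup T) = zpowers a :=
    (eq_of_le_of_card_ge hP (le_of_eq (by rw [Nat.card_zpowers, ha]; exact hcard))).symm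
  refine ⟨a, ha, fun b hb => ?_, ?_⟩
  · obtain ⟨R, hR⟩ := (IsPGroup.of_card (n := 1) (G := zpowers b)
      (by rw [Nat.card_zpowers, hb, pow_one]) : IsPGroup r (zpowers b)).exists_le_sylow
    obtain ⟨c, hc⟩ := MulAction.exists_smul_eq T R P
    refine ⟨c, ?_⟩
    rw [← hPa, ← hc]
    exact ⟨b, hR (mem_zpowers b), by simp⟩
  · by_contra! hall
    have hle : normalizer ((P : Subgroup T) : Set T) ≤ centralizer ((P : Subgroup T) : Set T) := by
      intro x hx
      have hm : x * a * x⁻¹ ∈ zpowers a := hPa ▸ (mem_normalizer_iff.1 hx a).1 (hP (mem_zpowers a))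
      have hc : Commute x a := mul_inv_eq_iff_eq_mul.1 (hall x hm)
      intro y hy
      rw [hPa] at hy
      obtain ⟨i, rfl⟩ := mem_zpowers_iff.1 hy
      exact (hc.zpow_right i).eq.symm
    have hc := MonoidHom.ker_transferSylow_isComplement' P hle
    rcases (inferInstance : ((MonoidHom.transferSylow P hle).ker).Normal).eq_bot_or_eq_top with e | e <;>
      rw [e] at hc
    · have := isComplement'_bot_left.1 hc
      rw [this, card_top] at hcard
      exact hne hcard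
    · have := isComplement'_top_left.1 hc
      rw [this, card_bot] at hcard
      exact hr.one_lt.ne hcard

omit [Finite T] [IsSimpleGroup T] in
theorem zpow_eq_pow_lt {r : ℕ} {a b : T} (hr : 0 < r) (ha : orderOf a = r) (hb : b ∈ zpowers a) :
    ∃ i < r, b = a ^ i := by
  obtain ⟨n, rfl⟩ := mem_zpowers_iff.1 hb
  refine ⟨(n % (r : ℤ)).toNat, ?_, ?_⟩
  · have := Int.emod_lt_of_pos n (Int.natCast_pos.2 hr)
    omega
  · rw [← zpow_natCast, Int.toNat_of_nonneg (Int.emod_nonneg n (by omega)), ← ha, zpow_mod_orderOf]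

omit [Finite T] [IsSimpleGroup T] in
theorem conj_conj {a x y : T} {i j : ℕ} (hx : x * a * x⁻¹ = a ^ i) (hy : y * a * y⁻¹ = a ^ j) :
    (x * y) * a * (x * y)⁻¹ = a ^ (i * j) := by
  rw [mul_inv_rev, show x * y * a * (y⁻¹ * x⁻¹) = x * (y * a * y⁻¹) * x⁻¹ by group, hy, ← conj_pow, hx, pow_mul]

omit [Finite T] [IsSimpleGroup T] in
theorem conj_pow_eq {a x : T} {i : ℕ} (hx : x * a * x⁻¹ = a ^ i) (k : ℕ) :
    x ^ k * a * (x ^ k)⁻¹ = a ^ (i ^ k) := by
  induction k with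
  | zero => simp
  | succ k ih => rw [pow_succ, pow_succ]; exact conj_conj ih hx

omit [IsSimpleGroup T] [Finite T] in
theorem pow_eq_of_mod {a : T} {r i j : ℕ} (ha : orderOf a = r) (h : i % r = j % r) : a ^ i = a ^ j := by
  rw [pow_eq_pow_iff_modEq, ha]; exact h

/-- Elements of order five fall into at most two classes, all real. -/
theorem five_classes (hd : 5 ∣ Nat.card T) (hd2 : ¬ 5 ^ 2 ∣ Nat.card T) (hne : Nat.card T ≠ 5) :
    ∃ (a w : T) (k : Fin 2 → T), orderOf a = 5 ∧ w * a * w⁻¹ = a⁻¹ ∧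
      ∀ b : T, orderOf b = 5 → ∃ i, IsConj (k i) b := by
  obtain ⟨a, ha, hall, x, hxm, hxne⟩ := sylow_prime_data (by norm_num) hd hd2 hne
  obtain ⟨i, hi, hx⟩ := zpow_eq_pow_lt (by norm_num) ha hxm
  have ha5 : a ^ 5 = 1 := ha ▸ pow_orderOf_eq_one a
  have hinv : a⁻¹ = a ^ 4 := inv_eq_of_mul_eq_one_right (by rw [← pow_succ', ha5])
  obtain ⟨w, hw⟩ : ∃ w : T, w * a * w⁻¹ = a ^ 4 := by
    interval_cases i
    · exfalso
      rw [pow_zero, conj_eq_one_iff] at hx
      rw [hx, orderOf_one] at ha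
      omega
    · exact absurd (by rwa [pow_one] at hx) hxne
    · exact ⟨x ^ 2, conj_pow_eq hx 2⟩
    · exact ⟨x ^ 2, (conj_pow_eq hx 2).trans (pow_eq_of_mod ha rfl)⟩
    · exact ⟨x, hx⟩
  refine ⟨a, w, ![a, a ^ 2], ha, hinv ▸ hw, fun b hb => ?_⟩
  obtain ⟨c, hc⟩ := hall b hb
  obtain ⟨j, hj, e⟩ := zpow_eq_pow_lt (by norm_num) ha hc
  have hbc : IsConj (a ^ j) b := e ▸ (isConj_iff.2 ⟨c, rfl⟩ : IsConj b (c * b * c⁻¹)).symm
  have h4 : ∀ m : ℕ, IsConj (a ^ m) (a ^ (4 * m)) := fun m =>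
    isConj_iff.2 ⟨w, by rw [← conj_pow, hw, ← pow_mul]⟩
  interval_cases j
  · exfalso
    rw [pow_zero, conj_eq_one_iff] at e
    rw [e, orderOf_one] at hb
    omega
  · exact ⟨0, by simpa using hbc⟩
  · exact ⟨1, by simpa using hbc⟩
  · exact ⟨1, (show IsConj (a ^ 2) b from
      ((h4 2).trans (by rw [pow_eq_of_mod ha (show (4 * 2) % 5 = 3 % 5 from rfl)])).trans hbc)⟩
  · exact ⟨0, (show IsConj a b from (by simpa using h4 1 : IsConj a (a ^ 4)).trans hbc)⟩

end Simple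

theorem seven_i : ∀ i < 7, i ≠ 0 → i ≠ 1 → (i % 7 = 2 ∨ i % 7 = 4) ∨ i ^ 3 % 7 = 6 := by decide

theorem seven_j : ∀ j < 7, j ≠ 0 → (j * j * (j * j)) % 7 = j % 7 ∨ (j * j * (j * j)) % 7 * 6 % 7 = j % 7 := by
  decide

theorem seven_k : ∀ i < 7, ∀ j < 7, (i % 7 = 2 ∨ i % 7 = 4) → j ≠ 0 → 1 % 7 ≠ j % 7 → i % 7 ≠ j % 7 →
    i ^ 2 % 7 ≠ j % 7 → i ^ 0 * j % 7 = 6 ∨ i ^ 1 * j % 7 = 6 ∨ i ^ 2 * j % 7 = 6 := by
  intro i hi j hj
  interval_cases i <;> interval_cases j <;> norm_num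

theorem seven_cube : ∀ i < 7, (i % 7 = 2 ∨ i % 7 = 4) → i ^ 3 % 7 = 1 := by decide

variable {G : Type*} [Group G] [Finite G]

/-- The simple subgroup is the whole group. -/
theorem eq_top_of_five_seven (h : CIT G) (T : Subgroup G) [T.Normal] [IsSimpleGroup T]
    (h5 : 5 ∣ Nat.card T) (h52 : ¬ 5 ^ 2 ∣ Nat.card T) (h7 : 7 ∣ Nat.card T) (h72 : ¬ 7 ^ 2 ∣ Nat.card T) :
    T = ⊤ := by
  have hne5 : Nat.card T ≠ 5 := fun e => by rw [e] at h7; norm_num at h7
  have hne7 : Nat.card T ≠ 7 := fun e => by rw [e] at h5; norm_num at h5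
  obtain ⟨a5, w5, k5, ha5, hw5, hk5⟩ := five_classes h5 h52 hne5
  have hle := index_le_card T h (by norm_num) (by norm_num) a5 ha5 w5 hw5 k5 hk5
  rw [Fintype.card_fin] at hle
  by_contra hT
  have hidx : T.index = 2 := by
    have h1 : T.index ≠ 1 := fun e => hT (index_eq_one.1 e)
    have h0 := T.index_ne_zero_of_finite
    omega
  obtain ⟨a₀, ha₀, hall, x₀, hxm, hxne⟩ := sylow_prime_data (by norm_num : Nat.Prime 7) h7 h72 hne7
  set a : G := (a₀ : G) with haG
  have ha : orderOf a = 7 := by rw [haG, Subgroup.orderOf_coe, ha₀]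
  obtain ⟨i, hi, hx'⟩ := zpow_eq_pow_lt (by norm_num) ha₀ hxm
  set x : G := (x₀ : G)
  have hx : x * a * x⁻¹ = a ^ i := congrArg Subtype.val hx'
  have hcen : ∀ y : G, Commute a y → y ∈ T := by
    intro y hy
    have h2 : y ^ 2 ∈ T := hidx ▸ pow_index_mem T y
    obtain ⟨k, hk⟩ := CIT_odd_centralizer h (by norm_num) (by norm_num) ha hy
    have e : y = (y ^ 2) ^ (k + 1) := by
      rw [← pow_mul, show 2 * (k + 1) = 2 * k + 1 + 1 by ring, pow_succ, ← hk, pow_orderOf_eq_one, one_mul]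
    rw [e]
    exact pow_mem h2 _
  -- an outer element normalising the subgroup
  obtain ⟨g, hg⟩ : ∃ g : G, g ∉ T := by
    by_contra! hall
    exact hT (eq_top_iff.2 fun g _ => hall g)
  obtain ⟨c, hc⟩ := hall (MulAut.conjNormal g a₀) (by rw [MulEquiv.orderOf_eq, ha₀])
  obtain ⟨j, hj, hy'⟩ := zpow_eq_pow_lt (by norm_num) ha₀ hc
  set y : G := (c : G) * g
  have hyT : y ∉ T := fun hm => hg (by simpa [y] using T.mul_mem (T.inv_mem c.2) hm)
  have hy : y * a * y⁻¹ = a ^ j := by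
    have := congrArg Subtype.val hy'
    simp only [Subgroup.coe_mul, Subgroup.coe_inv, MulAut.conjNormal_apply, SubmonoidClass.coe_pow] at this
    rw [show y * a * y⁻¹ = (c : G) * (g * a * g⁻¹) * (c : G)⁻¹ by simp [y, mul_assoc]]
    exact this
  have ha1 : ∀ n : ℕ, n % 7 = 0 → a ^ n ≠ a := by
    intro n hn e
    rw [show a ^ n = 1 by rw [← pow_zero a]; exact pow_eq_of_mod ha hn] at e
    rw [← e, orderOf_one] at ha
    omega
  have hi0 : i ≠ 0 := by
    rintro rfl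
    rw [pow_zero, conj_eq_one_iff] at hx
    rw [hx, orderOf_one] at ha
    omega
  have hi1 : i ≠ 1 := fun e => hxne (by rw [hx', e, pow_one])
  have hj0 : j ≠ 0 := by
    rintro rfl
    rw [pow_zero, conj_eq_one_iff] at hy
    rw [hy, orderOf_one] at ha
    omega
  -- the multiplier of an outer element is outside those of `T`
  have out : ∀ (z : G) (n : ℕ), z ∈ T → z * a * z⁻¹ = a ^ n → n % 7 ≠ j % 7 := by
    intro z n hz hn e
    have hya : y * a * y⁻¹ = z * a * z⁻¹ := by rw [hy, hn]; exact (pow_eq_of_mod ha e).symm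
    have hc : Commute a (z⁻¹ * y) := by
      show a * (z⁻¹ * y) = z⁻¹ * y * a
      calc a * (z⁻¹ * y) = z⁻¹ * (z * a * z⁻¹) * y := by group
        _ = z⁻¹ * y * a := by rw [← hya]; group
    exact hyT ((T.mul_mem_cancel_left (T.inv_mem hz)).1 (hcen _ hc))
  have hsq : y * y ∈ T := by rw [← pow_two, ← hidx]; exact pow_index_mem T y
  have hsqa := conj_conj hy hy
  have hx3 : i % 7 = 2 ∨ i % 7 = 4 := by
    rcases seven_i i hi hi0 hi1 with e | h6
    · exact e
    exfalso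
    rcases seven_j j hj hj0 with e | e
    · exact out _ _ (T.mul_mem hsq hsq) (conj_conj hsqa hsqa) e
    · exact out _ _ (T.mul_mem (T.mul_mem hsq hsq) (pow_mem x₀.2 3))
        (conj_conj (conj_conj hsqa hsqa) (conj_pow_eq hx 3)) (by rw [Nat.mul_mod, h6]; exact e)
  obtain ⟨k, hk⟩ : ∃ k, i ^ k * j % 7 = 6 := by
    rcases seven_k i hi j hj hx3 hj0 (out 1 1 T.one_mem (by simp)) (out _ _ x₀.2 hx)
      (out _ _ (pow_mem x₀.2 2) (conj_pow_eq hx 2)) with e | e | e <;> exact ⟨_, e⟩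
  have ha7 : a ^ 7 = 1 := ha ▸ pow_orderOf_eq_one a
  set y' : G := x ^ k * y
  have hy' : y' * a * y'⁻¹ = a⁻¹ := by
    rw [conj_conj (conj_pow_eq hx k) hy, pow_eq_of_mod ha (show i ^ k * j % 7 = 6 % 7 from hk)]
    exact (inv_eq_of_mul_eq_one_right (by rw [← pow_succ', ha7])).symm
  have hy'T : y' ∉ T := fun hm => hyT ((T.mul_mem_cancel_left (pow_mem x₀.2 k)).1 hm)
  -- its 2-part is an involution outside `T`
  obtain ⟨e2, m, hm, hd⟩ := Nat.exists_eq_pow_mul_and_not_dvd (orderOf_pos y').ne' 2 (by decide)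
  obtain ⟨q, hq⟩ : Odd m := Nat.odd_iff.2 (by omega)
  set t := y' ^ m
  have htT : t ∉ T := by
    intro hmem
    refine hy'T ?_
    have e : t = (y' ^ 2) ^ q * y' := by rw [← pow_mul, ← pow_succ, ← hq]
    rw [e] at hmem
    exact (T.mul_mem_cancel_left (pow_mem (hidx ▸ pow_index_mem T y') q)).1 hmem
  have hta : t * a * t⁻¹ = a⁻¹ := by
    rw [show t = y' ^ (2 * q + 1) by rw [← hq]]; exact inverts_odd_pow hy' q
  have hta' : t * a⁻¹ * t⁻¹ = a := by
    rw [← conj_inv, hta, inv_inv]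
  have ht2 : t * t = 1 := by
    by_contra hne
    refine h.no_commute hne ⟨e2, ?_⟩ (by norm_num : Nat.Prime 7) (by norm_num) ha ?_
    · rw [← pow_two, ← pow_mul, mul_comm, pow_mul,
        show t ^ 2 ^ e2 = 1 by rw [← pow_mul, mul_comm, ← hd, pow_orderOf_eq_one], one_pow]
    · show t * t * a = a * (t * t)
      calc t * t * a = t * (t * a * t⁻¹) * t⁻¹ * (t * t) := by group
        _ = a * (t * t) := by rw [hta, hta']
  have hti : t⁻¹ = t := inv_eq_of_mul_eq_one_right ht2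
  -- it fixes an element outside the centraliser
  have htx : (t * x * t) * a * (t * x * t)⁻¹ = a ^ i := by
    rw [show (t * x * t)⁻¹ = t * x⁻¹ * t by rw [mul_inv_rev, mul_inv_rev, hti, mul_assoc],
      show t * x * t * a * (t * x⁻¹ * t) = t * (x * (t * a * t) * x⁻¹) * t by group]
    rw [show t * a * t = a⁻¹ by simpa [hti] using hta, ← conj_inv, hx, ← inv_pow]
    have := congrArg (fun z => z ^ i) hta'
    simp only [conj_pow] at this
    rw [hti] at this
    exact this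
  have hu : Commute a (x⁻¹ * (t * x * t)) := by
    show a * _ = _ * a
    calc a * (x⁻¹ * (t * x * t)) = x⁻¹ * (x * a * x⁻¹) * (t * x * t) := by group
      _ = x⁻¹ * (t * x * t) * a := by rw [hx, ← htx]; group
  obtain ⟨v, hv, hcv⟩ := exists_fixed_in_coset ht2 (CIT_odd_centralizer h (by norm_num) (by norm_num) ha hu)
  obtain ⟨n, rfl⟩ := mem_zpowers_iff.1 hv
  have hne1 : x * (x⁻¹ * (t * x * t)) ^ n ≠ 1 := fun e => by
    have hc : Commute a x := by
      rw [eq_inv_of_mul_eq_one_left e]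
      exact (hu.zpow_right n).inv_right
    rw [hc.symm.eq, mul_inv_cancel_right] at hx
    exact hxne (by rw [hx']; exact Subtype.ext hx.symm)
  -- it has order prime to two
  set z := x * (x⁻¹ * (t * x * t)) ^ n
  obtain ⟨s, hs⟩ : Odd (orderOf (z ^ 3)) := by
    refine CIT_odd_centralizer h (by norm_num) (by norm_num) ha ?_
    have hz : z * a * z⁻¹ = a ^ i := by
      have hw := mul_inv_eq_iff_eq_mul.2 (hu.zpow_right n).symm.eq
      calc z * a * z⁻¹ = x * ((x⁻¹ * (t * x * t)) ^ n * a * ((x⁻¹ * (t * x * t)) ^ n)⁻¹) * x⁻¹ := by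
            simp only [z]; group
        _ = a ^ i := by rw [hw, hx]
    have hz3 := conj_pow_eq hz 3
    rw [pow_eq_of_mod ha (show i ^ 3 % 7 = 1 % 7 from seven_cube i hi hx3),
      pow_one] at hz3
    exact (mul_inv_eq_iff_eq_mul.1 hz3).symm
  refine CIT_no_odd h ht2 (fun e => htT (e ▸ T.one_mem)) (Odd.of_dvd_nat ?_ (orderOf_dvd_of_pow_eq_one
    (show z ^ (3 * orderOf (z ^ 3)) = 1 by rw [pow_mul, pow_orderOf_eq_one]))) hne1 hcv
  exact (Nat.odd_iff.2 rfl : Odd 3).mul ⟨s, hs⟩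

end Cfsg.Agent.CNStructure
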