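import Mathlib

/-!
# Fixed-point-free conjugation action on an abelian normal 2-subgroup, as operators
-/

set_option autoImplicit false

namespace Cfsg.Agent.CNStructure

open Finset
open scoped IsMulCommutative

section Ring

variable {R : Type*} [Ring R] {X : Type*} [Monoid X] (ρ : X →* R)

/-- Commuting elements of odd prime order acting without fixed points generate a cyclic group. -/
theorem two_eq_of_pair {x y : X} {r : ℕ} (hr : Odd r) (hxy : Commute x y)
    (hy : y ^ r = 1) (hN : ∀ k, ∑ j ∈ range r, (ρ (x * y ^ k)) ^ j = 0)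
    (hNy : ∀ j, 0 < j → j < r → ∑ k ∈ range r, (ρ (y ^ j)) ^ k = 0) (h2 : (2 : R) = 0) :
    (1 : R) = 0 := by
  have h : ∑ k ∈ range r, ∑ j ∈ range r, (ρ (x * y ^ k)) ^ j = 0 := Finset.sum_eq_zero fun k _ => hN k
  rw [Finset.sum_comm] at h
  have e : ∀ j k, (ρ (x * y ^ k)) ^ j = ρ (x ^ j) * (ρ (y ^ j)) ^ k := fun j k => by
    rw [← map_pow, ← map_pow, ← map_mul, (hxy.pow_right k).mul_pow, ← pow_mul, ← pow_mul, mul_comm k j]
  simp only [e, ← Finset.mul_sum] at h
  rw [Finset.sum_eq_single 0] at h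
  · obtain ⟨k, rfl⟩ := hr
    simp [h2] at h
    exact h
  · intro j hj hj0
    rw [hNy j (Nat.pos_of_ne_zero hj0) (Finset.mem_range.1 hj), mul_zero]
  · exact fun h0 => absurd (Finset.mem_range.2 hr.pos) h0

end Ring

section Conj

variable {G : Type*} [Group G] (Q V : Subgroup G) [Q.Normal] [V.Normal] [IsMulCommutative V]

/-- The conjugation action of `G/Q` on an abelian normal subgroup centralised by `Q`. -/
noncomputable def conjEnd (hQV : ∀ q ∈ Q, ∀ v ∈ V, q * v = v * q) :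
    G ⧸ Q →* AddMonoid.End (Additive V) where
  toFun c := ((QuotientGroup.lift Q (MulAut.conjNormal : G →* MulAut V) (fun q hq =>
    MonoidHom.mem_ker.2 (MulEquiv.ext fun v => Subtype.ext (by
      rw [MulAut.conjNormal_apply, hQV q hq v v.2, mul_inv_cancel_right]; rfl))) c).toMonoidHom).toAdditive
  map_one' := AddMonoidHom.ext fun v => by simp; rfl
  map_mul' c d := AddMonoidHom.ext fun v => by simp; rfl

theorem conjEnd_mk (hQV : ∀ q ∈ Q, ∀ v ∈ V, q * v = v * q) (g : G) (v : Additive V) :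
    ((Additive.toMul (conjEnd Q V hQV (g : G ⧸ Q) v) : V) : G) = g * ((Additive.toMul v : V) : G) * g⁻¹ := by
  show (((MulAut.conjNormal g) (Additive.toMul v) : V) : G) = _
  rw [MulAut.conjNormal_apply]

variable [Finite G]

omit [Finite G] [V.Normal] [IsMulCommutative V] in
theorem exists_odd_lift (hQ : IsPGroup 2 Q) {c : G ⧸ Q} {n : ℕ} (hn : Odd n) (hc : c ^ n = 1) :
    ∃ x : G, (x : G ⧸ Q) = c ∧ x ^ n = 1 := by
  obtain ⟨g, rfl⟩ := QuotientGroup.mk_surjective c
  rw [← QuotientGroup.mk_pow, QuotientGroup.eq_one_iff] at hc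
  obtain ⟨k, hk⟩ := hQ ⟨g ^ n, hc⟩
  have hk' : (g ^ n) ^ 2 ^ k = 1 := congrArg Subtype.val hk
  have hcop : (2 ^ k).Coprime n := Nat.Coprime.pow_left _ (Nat.coprime_two_left.2 hn)
  rcases eq_or_ne n 1 with rfl | hn1
  · refine ⟨1, ?_, one_pow _⟩
    rw [pow_one] at hc
    exact ((QuotientGroup.eq_one_iff g).2 hc).symm
  obtain ⟨s, hs, hs1⟩ := Nat.exists_mul_mod_eq_one_of_coprime hcop (by have := hn.pos; omega)
  refine ⟨g ^ (2 ^ k * s), ?_, ?_⟩
  · have hgn : ((g : G ⧸ Q)) ^ n = 1 := by rw [← QuotientGroup.mk_pow, QuotientGroup.eq_one_iff]; exact hc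
    rw [QuotientGroup.mk_pow, pow_eq_pow_mod _ hgn, hs1, pow_one]
  · rw [← pow_mul, mul_comm, ← mul_assoc, pow_mul, pow_mul, hk', one_pow]

omit [Finite G] [V.Normal] in
theorem two_eq_zero (hV2 : ∀ v ∈ V, v * v = 1) : (2 : AddMonoid.End (Additive V)) = 0 := by
  refine AddMonoidHom.ext fun v => Additive.toMul.injective (Subtype.ext ?_)
  rw [← one_add_one_eq_two]
  exact hV2 _ (Additive.toMul v).2

/-- Norm of an element of odd order acting without fixed points. -/
theorem norm_zero (hQV : ∀ q ∈ Q, ∀ v ∈ V, q * v = v * q) (hQ : IsPGroup 2 Q)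
    (hfpf : ∀ x : G, Odd (orderOf x) → x ≠ 1 → ∀ v ∈ V, x * v * x⁻¹ = v → v = 1)
    {c : G ⧸ Q} {n : ℕ} (hn : Odd n) (hc : c ^ n = 1) (hc1 : c ≠ 1) :
    ∑ j ∈ range n, (conjEnd Q V hQV c) ^ j = 0 := by
  obtain ⟨x, rfl, hx⟩ := exists_odd_lift Q hQ hn hc
  have hxo : Odd (orderOf x) := Odd.of_dvd_nat hn (orderOf_dvd_of_pow_eq_one hx)
  have hx1 : x ≠ 1 := fun e => hc1 (by rw [e]; rfl)
  set a := conjEnd Q V hQV (x : G ⧸ Q)
  have han : a ^ n = 1 := by rw [← map_pow, ← QuotientGroup.mk_pow, hx]; exact map_one _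
  have ha : a * (∑ j ∈ range n, a ^ j) = ∑ j ∈ range n, a ^ j := by
    rw [Finset.mul_sum]
    have h1 := Finset.sum_range_succ' (fun j => a ^ j) n
    have h2 := Finset.sum_range_succ (fun j => a ^ j) n
    rw [h1, han, pow_zero] at h2
    simp only [← pow_succ']
    exact add_right_cancel h2
  refine AddMonoidHom.ext fun v => ?_
  have h := DFunLike.congr_fun ha v
  have h' := congrArg (fun z : Additive V => ((Additive.toMul z : V) : G)) h
  rw [show (a * ∑ j ∈ range n, a ^ j) v = a ((∑ j ∈ range n, a ^ j) v) from rfl] at h'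
  simp only [a, conjEnd_mk] at h'
  exact Additive.toMul.injective (Subtype.ext (hfpf x hxo hx1 _ (Additive.toMul ((∑ j ∈ range n, a ^ j) v) : V).2 h'))

end Conj

end Cfsg.Agent.CNStructure
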