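import Cfsg.Agent.CNStructure.SzDefs
import Cfsg.Agent.CNStructure.Norm
import Cfsg.Agent.CNStructure.Core

/-!
# Fixed-point-free 2-groups under a Suzuki group are elementary abelian
-/

set_option autoImplicit false

namespace Cfsg.Agent.CNStructure

open Finset Subgroup
open scoped IsMulCommutative TensorProduct

universe u

/-- The action is fixed-point-free on the elements of odd order. -/
def OddFpf {G : Type u} [Group G] (Q : Subgroup G) : Prop :=
  ∀ x : G, Odd (orderOf x) → x ≠ 1 → ∀ q ∈ Q, x * q * x⁻¹ = q → q = 1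

/-- Bilinear equivariant maps between fixed-point-free modules vanish. -/
def BilinVanish (F : Type) [Field F] (X : Type*) [Monoid X] : Prop :=
  ∀ (A B : Type u) [AddCommGroup A] [Module F A] [FiniteDimensional F A] [AddCommGroup B] [Module F B]
    [FiniteDimensional F B] (ρA : X →* Module.End F A) (ρB : X →* Module.End F B),
    NormZero ρA → NormZero ρB → ∀ β : A →ₗ[F] A →ₗ[F] B,
      (∀ g v w, β (ρA g v) (ρA g w) = ρB g (β v w)) → β = 0

/-- Modules of exponent four are of exponent two. -/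
def NoFour (X : Type*) [Monoid X] : Prop :=
  ∀ (M : Type u) [AddCommGroup M] [Finite M] (ρ : X →* AddMonoid.End M),
    NormZero ρ → (∀ x : M, 4 • x = 0) → ∀ x : M, 2 • x = 0

section Linear

variable {X : Type*} [Group X] {M : Type u} [AddCommGroup M] [Module (ZMod 2) M]

/-- Endomorphisms as linear maps. -/
def endZMod : AddMonoid.End M →+* Module.End (ZMod 2) M where
  toFun f := AddMonoidHom.toZModLinearMap 2 f
  map_one' := rfl
  map_mul' _ _ := rfl
  map_zero' := rfl
  map_add' _ _ := rfl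

variable (F : Type) [Field F] [Algebra (ZMod 2) F]

/-- Extension of scalars of an action. -/
noncomputable def extendScalars (ρ : X →* AddMonoid.End M) : X →* Module.End F (F ⊗[ZMod 2] M) :=
  ((Module.End.baseChangeHom (ZMod 2) F M).toRingHom.comp endZMod).toMonoidHom.comp ρ

theorem extendScalars_normZero {ρ : X →* AddMonoid.End M} (h : NormZero ρ) : NormZero (extendScalars F ρ) := by
  intro x n hn hx hx1
  have := congrArg ((Module.End.baseChangeHom (ZMod 2) F M).toRingHom.comp endZMod) (h x n hn hx hx1)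
  rw [map_sum, map_zero] at this
  simp only [map_pow] at this
  exact this

theorem extendScalars_tmul (ρ : X →* AddMonoid.End M) (g : X) (a : F) (m : M) :
    extendScalars F ρ g (a ⊗ₜ m) = a ⊗ₜ (ρ g m) := rfl

theorem one_tmul_eq_zero {v : M} (h : (1 : F) ⊗ₜ[ZMod 2] v = 0) : v = 0 := by
  have hinj := Module.Flat.rTensor_preserves_injective_linearMap (R := ZMod 2) (M := M)
    (Algebra.linearMap (ZMod 2) F) (algebraMap (ZMod 2) F).injective
  have h0 : (1 : ZMod 2) ⊗ₜ[ZMod 2] v = 0 := hinj (by simpa using h)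
  simpa using congrArg (TensorProduct.lid (ZMod 2) M) h0

end Linear

variable {F : Type} [Field F] [Fintype F] [CharP F 2] {X : Type*} [Group X]

/-- An equivariant bilinear map over the prime field vanishes. -/
theorem bilin_two_eq_zero (hB : BilinVanish.{u} F X) {A B : Type u} [AddCommGroup A] [AddCommGroup B]
    [Finite A] [Finite B] (hA2 : ∀ a : A, 2 • a = 0) (hB2 : ∀ b : B, 2 • b = 0)
    (ρA : X →* AddMonoid.End A) (ρB : X →* AddMonoid.End B) (hA : NormZero ρA) (hB' : NormZero ρB)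
    (β : A →+ A →+ B) (hβ : ∀ g a b, β (ρA g a) (ρA g b) = ρB g (β a b)) : β = 0 := by
  letI : Module (ZMod 2) A := AddCommGroup.zmodModule hA2
  letI : Module (ZMod 2) B := AddCommGroup.zmodModule hB2
  letI : Algebra (ZMod 2) F := ZMod.algebra F 2
  let β' : LinearMap.BilinMap (ZMod 2) A B :=
    AddMonoidHom.toZModLinearMap 2 (M₁ := A →ₗ[ZMod 2] B)
      { toFun := fun a => AddMonoidHom.toZModLinearMap 2 (β a)
        map_zero' := by ext b; simp
        map_add' := fun a a' => by ext b; simp }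
  have hβ' : ∀ a b, β' a b = β a b := fun a b => rfl
  have hzero := hB (F ⊗[ZMod 2] A) (F ⊗[ZMod 2] B) (extendScalars F ρA) (extendScalars F ρB)
    (extendScalars_normZero F hA) (extendScalars_normZero F hB') (β'.baseChange F) ?_
  · ext a b
    have h := congrFun (congrArg DFunLike.coe (DFunLike.congr_fun hzero ((1 : F) ⊗ₜ[ZMod 2] a))) ((1 : F) ⊗ₜ[ZMod 2] b)
    rw [LinearMap.BilinMap.baseChange_tmul, mul_one, hβ'] at h
    exact one_tmul_eq_zero F h
  · intro g v w
    induction v using TensorProduct.induction_on with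
    | zero => simp
    | add v v' hv hv' => simp [map_add, hv, hv']
    | tmul c a =>
      induction w using TensorProduct.induction_on with
      | zero => simp
      | add w w' hw hw' => simp [map_add, hw, hw']
      | tmul d b =>
        rw [extendScalars_tmul, extendScalars_tmul, LinearMap.BilinMap.baseChange_tmul,
          LinearMap.BilinMap.baseChange_tmul, extendScalars_tmul, hβ', hβ', hβ]

omit [Fintype F] [CharP F 2] in
theorem conjEnd_normZero {G : Type u} [Group G] [Finite G] (Q V : Subgroup G) [Q.Normal] [V.Normal]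
    [IsMulCommutative V] (hQ : IsPGroup 2 Q) (hV : V ≤ Q) (hfpf : OddFpf Q)
    (hQV : ∀ q ∈ Q, ∀ v ∈ V, q * v = v * q) (e : X ≃* G ⧸ Q) :
    NormZero ((conjEnd Q V hQV).comp e.toMonoidHom) := by
  intro x n hn hx hx1
  exact norm_zero Q V hQV hQ (fun y hy hy1 v hv h => hfpf y hy hy1 v (hV hv) h) hn
    (by rw [← map_pow, hx, map_one]) fun h => hx1 (e.injective (h.trans (map_one _).symm))

/-- A fixed point of an element of odd order in a quotient comes from a fixed point. -/
theorem fpf_quotient {G : Type u} [Group G] [Finite G] {Q V : Subgroup G} [Q.Normal] [V.Normal]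
    (hQ : IsPGroup 2 Q) (hV : V ≤ Q) (hVc : ∀ q ∈ Q, ∀ v ∈ V, q * v = v * q) (hfpf : OddFpf Q) :
    OddFpf (Q.map (QuotientGroup.mk' V)) := by
  rintro c hc hc1 _ ⟨q, hq, rfl⟩ hfix
  obtain ⟨x, rfl, hx⟩ := exists_odd_lift V (hQ.to_le hV) hc (pow_orderOf_eq_one c)
  have hxo : Odd (orderOf x) := Odd.of_dvd_nat hc (orderOf_dvd_of_pow_eq_one hx)
  have hx1 : x ≠ 1 := fun e => hc1 (by rw [e]; rfl)
  let f : V → V := fun w => ⟨(w : G)⁻¹ * (x * w * x⁻¹),
    V.mul_mem (V.inv_mem w.2) ((inferInstance : V.Normal).conj_mem w w.2 x)⟩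
  have hVab : ∀ a ∈ V, ∀ b ∈ V, a * b = b * a := fun a ha b hb => hVc a (hV ha) b hb
  have hf : Function.Bijective f := Finite.injective_iff_bijective.1 fun a b hab => by
    have h : (a : G)⁻¹ * (x * a * x⁻¹) = (b : G)⁻¹ * (x * b * x⁻¹) := congrArg Subtype.val hab
    have hb : x * (b : G) * x⁻¹ ∈ V := (inferInstance : V.Normal).conj_mem b b.2 x
    have h' : x * ((a : G) * (b : G)⁻¹) * x⁻¹ = (a : G) * (b : G)⁻¹ := by
      calc x * ((a : G) * (b : G)⁻¹) * x⁻¹ = (a : G) * ((a : G)⁻¹ * (x * a * x⁻¹)) * (x * b * x⁻¹)⁻¹ := by group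
        _ = (a : G) * (b : G)⁻¹ := by rw [h]; group
    exact Subtype.ext (mul_inv_eq_one.1 (hfpf x hxo hx1 _ (hV (V.mul_mem a.2 (V.inv_mem b.2))) h'))
  have hv : q⁻¹ * (x * q * x⁻¹) ∈ V := by
    rw [← QuotientGroup.eq]
    simpa using hfix.symm
  obtain ⟨w, hw⟩ := hf.2 ⟨(q⁻¹ * (x * q * x⁻¹))⁻¹, V.inv_mem hv⟩
  have hw' : (w : G)⁻¹ * (x * w * x⁻¹) = (q⁻¹ * (x * q * x⁻¹))⁻¹ := congrArg Subtype.val hw
  have hqw : x * (q * w) * x⁻¹ = q * w := by
    calc x * (q * w) * x⁻¹ = q * ((q⁻¹ * (x * q * x⁻¹)) * w) * ((w : G)⁻¹ * (x * w * x⁻¹)) := by group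
      _ = q * w := by rw [hw', hVab _ hv _ w.2]; group
  have := hfpf x hxo hx1 _ (Q.mul_mem hq (hV w.2)) hqw
  exact (QuotientGroup.eq_one_iff q).2 (eq_inv_of_mul_eq_one_left this ▸ V.inv_mem w.2)

/-- Induction on the order of the 2-group. -/
theorem sz_core_elementary (hB : BilinVanish.{u} F X) (h4 : NoFour.{u} X) :
    ∀ (n : ℕ) (G : Type u) [Group G] [Finite G] (Q : Subgroup G) [Q.Normal], Nat.card Q ≤ n →
      IsPGroup 2 Q → (X ≃* G ⧸ Q) → OddFpf Q → Cfsg.IsElementaryAbelian 2 Q := by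
  intro n
  induction n with
  | zero => intro G _ _ Q _ hn; exact absurd hn (Nat.not_le.2 Nat.card_pos)
  | succ n ih =>
    intro G _ _ Q _ hn hQ e hfpf
    rcases eq_or_ne Q ⊥ with hQ1 | hQ1
    · exact ⟨⟨⟨fun a b => Subtype.ext (by
          have ha := (eq_bot_iff_forall Q).1 hQ1 a a.2
          have hb := (eq_bot_iff_forall Q).1 hQ1 b b.2
          simp [ha, hb])⟩⟩,
        fun a ha => by rw [hQ1, mem_bot] at ha; rw [ha, one_pow]⟩
    set V := omegaCenter Q
    haveI hVn : V.Normal := omegaCenter_normal Q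
    have hVQ : V ≤ Q := fun v hv => hv.1
    haveI hVc : IsMulCommutative V := ⟨⟨fun a b => Subtype.ext (b.2.2.1 a (hVQ a.2))⟩⟩
    set Q' := Q.map (QuotientGroup.mk' V) with hQ'
    haveI : Q'.Normal := (inferInstance : Q.Normal).map _ (QuotientGroup.mk'_surjective V)
    have hcard : Nat.card Q' ≤ n := by
      have h1 := Subgroup.card_mul_index (V.subgroupOf Q)
      have h2 : Nat.card Q' = (V.subgroupOf Q).index := by
        have hk : V.subgroupOf Q = ((QuotientGroup.mk' V).comp Q.subtype).ker := by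
          ext a; simp [Subgroup.mem_subgroupOf]
        rw [hk, Subgroup.index_ker, MonoidHom.range_comp, Subgroup.range_subtype]
      have h3 : 2 ≤ Nat.card V := (V.one_lt_card_iff_ne_bot).2 (omegaCenter_ne_bot hQ hQ1)
      rw [Nat.card_congr (Subgroup.subgroupOfEquivOfLe hVQ).toEquiv, ← h2] at h1
      nlinarith [Nat.card_pos (α := Q')]
    have hQ'p : IsPGroup 2 Q' := hQ.map _
    have hfpf' : OddFpf Q' := fpf_quotient hQ hVQ (fun q hq v hv => hv.2.1 q hq) hfpf
    let e' : X ≃* (G ⧸ V) ⧸ Q' := e.trans (QuotientGroup.quotientQuotientEquivQuotient V Q hVQ).symm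
    obtain ⟨hQ'c, hQ'2⟩ := ih (G ⧸ V) Q' hcard hQ'p e' hfpf'
    haveI := hQ'c
    have hcom : ∀ q ∈ Q, ∀ r ∈ Q, q * r * q⁻¹ * r⁻¹ ∈ V := by
      intro q hq r hr
      rw [← QuotientGroup.eq_one_iff]
      simp only [QuotientGroup.mk_mul, QuotientGroup.mk_inv]
      rw [show (q : G ⧸ V) * r = r * q from congrArg Subtype.val (hQ'c.is_comm.comm
        ⟨_, mem_map_of_mem (QuotientGroup.mk' V) hq⟩ ⟨_, mem_map_of_mem (QuotientGroup.mk' V) hr⟩)]
      group
    have hcen : ∀ v ∈ V, ∀ q ∈ Q, q * v = v * q := fun v hv => hv.2.1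
    -- the commutator map
    have hQ'V : ∀ q' ∈ Q', ∀ v ∈ Q', q' * v = v * q' := fun a ha b hb =>
      congrArg Subtype.val (hQ'c.is_comm.comm ⟨a, ha⟩ ⟨b, hb⟩)
    set ρA := (conjEnd Q' Q' hQ'V).comp e'.toMonoidHom
    set ρB := (conjEnd Q V (fun q hq v hv => hcen v hv q hq)).comp e.toMonoidHom
    have hA : NormZero ρA := conjEnd_normZero Q' Q' hQ'p le_rfl hfpf' hQ'V e'
    have hB' : NormZero ρB := conjEnd_normZero Q V hQ hVQ hfpf _ e
    have hlift : ∀ a : Q', ∃ q, q ∈ Q ∧ (QuotientGroup.mk q : G ⧸ V) = a := fun a => a.2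
    choose s hsQ hs using hlift
    let cm : Additive Q' → Additive Q' → Additive V := fun a b => Additive.ofMul
      (⟨s a.toMul * s b.toMul * (s a.toMul)⁻¹ * (s b.toMul)⁻¹, hcom _ (hsQ _) _ (hsQ _)⟩ : V)
    have hval : ∀ (a b : Additive Q') (q r : G), q ∈ Q → r ∈ Q → (QuotientGroup.mk q : G ⧸ V) = a.toMul →
        (QuotientGroup.mk r : G ⧸ V) = b.toMul →
        ((Additive.toMul (cm a b) : V) : G) = q * r * q⁻¹ * r⁻¹ := by
      intro a b q r hq hr ha hb
      have hu : (s a.toMul)⁻¹ * q ∈ V := QuotientGroup.eq.1 (by rw [hs, ha])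
      have hv : (s b.toMul)⁻¹ * r ∈ V := QuotientGroup.eq.1 (by rw [hs, hb])
      show s a.toMul * s b.toMul * (s a.toMul)⁻¹ * (s b.toMul)⁻¹ = _
      generalize hu' : (s a.toMul)⁻¹ * q = z at hu
      generalize hv' : (s b.toMul)⁻¹ * r = w at hv
      rw [inv_mul_eq_iff_eq_mul] at hu' hv'
      subst hu' hv'
      have c1 : ∀ y ∈ Q, Commute y z := fun y hy => hcen z hu y hy
      have c2 : ∀ y ∈ Q, Commute y w := fun y hy => hcen w hv y hy
      symm
      calc s a.toMul * z * (s b.toMul * w) * (s a.toMul * z)⁻¹ * (s b.toMul * w)⁻¹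
          = s a.toMul * (z * s b.toMul) * (w * z⁻¹) * (s a.toMul)⁻¹ * w⁻¹ * (s b.toMul)⁻¹ := by group
        _ = s a.toMul * (s b.toMul * z) * (z⁻¹ * w) * (s a.toMul)⁻¹ * w⁻¹ * (s b.toMul)⁻¹ := by
            rw [(c1 _ (hsQ _)).eq, ((c1 w (hVQ hv)).inv_right).eq]
        _ = s a.toMul * s b.toMul * (w * (s a.toMul)⁻¹) * w⁻¹ * (s b.toMul)⁻¹ := by group
        _ = _ := by rw [← ((c2 _ (hsQ _)).inv_left).eq]; group
    let β : Additive Q' →+ Additive Q' →+ Additive V :=
      AddMonoidHom.mk' (fun a => AddMonoidHom.mk' (cm a) fun b b' => by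
          refine Additive.toMul.injective (Subtype.ext ?_)
          rw [hval a (b + b') (s a.toMul) (s b.toMul * s b'.toMul) (hsQ _) (Q.mul_mem (hsQ _) (hsQ _)) (hs _)
            (by rw [QuotientGroup.mk_mul, hs, hs]; rfl)]
          show _ = s a.toMul * s b.toMul * (s a.toMul)⁻¹ * (s b.toMul)⁻¹ *
            (s a.toMul * s b'.toMul * (s a.toMul)⁻¹ * (s b'.toMul)⁻¹)
          have hc := hcen _ (hcom _ (hsQ a.toMul) _ (hsQ b'.toMul)) _ (hsQ b.toMul)
          calc s a.toMul * (s b.toMul * s b'.toMul) * (s a.toMul)⁻¹ * (s b.toMul * s b'.toMul)⁻¹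
              = s a.toMul * s b.toMul * (s a.toMul)⁻¹ *
                (s a.toMul * s b'.toMul * (s a.toMul)⁻¹ * (s b'.toMul)⁻¹) * (s b.toMul)⁻¹ := by group
            _ = _ := by rw [mul_assoc _ _ (s b.toMul)⁻¹,
                ← ((show Commute (s b.toMul) _ from hc).inv_left).eq, ← mul_assoc])
        fun a a' => AddMonoidHom.ext fun b => by
          refine Additive.toMul.injective (Subtype.ext ?_)
          show ((Additive.toMul (cm (a + a') b) : V) : G) = _
          rw [hval (a + a') b (s a.toMul * s a'.toMul) (s b.toMul) (Q.mul_mem (hsQ _) (hsQ _)) (hsQ _)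
            (by rw [QuotientGroup.mk_mul, hs, hs]; rfl) (hs _)]
          show _ = s a.toMul * s b.toMul * (s a.toMul)⁻¹ * (s b.toMul)⁻¹ *
            (s a'.toMul * s b.toMul * (s a'.toMul)⁻¹ * (s b.toMul)⁻¹)
          have hc1 := hcen _ (hcom _ (hsQ a'.toMul) _ (hsQ b.toMul))
          calc s a.toMul * s a'.toMul * s b.toMul * (s a.toMul * s a'.toMul)⁻¹ * (s b.toMul)⁻¹
              = s a.toMul * (s a'.toMul * s b.toMul * (s a'.toMul)⁻¹ * (s b.toMul)⁻¹) *
                (s b.toMul * (s a.toMul)⁻¹ * (s b.toMul)⁻¹) := by group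
            _ = _ := by
                rw [hc1 _ (hsQ _), mul_assoc, ← hc1 _ (Q.mul_mem (hsQ _) (Q.mul_mem (Q.mul_mem (hsQ _)
                  (Q.inv_mem (hsQ _))) (Q.inv_mem (hsQ _))))]
                group
    have hQ'2' : ∀ a : Additive Q', 2 • a = 0 := fun a => Additive.toMul.injective (Subtype.ext (by
      show ((Additive.toMul a : Q') : G ⧸ V) ^ 2 = 1
      exact hQ'2 _ a.toMul.2))
    have hV2 : ∀ a : Additive V, 2 • a = 0 := fun a => Additive.toMul.injective (Subtype.ext (by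
      show ((Additive.toMul a : V) : G) ^ 2 = 1
      rw [pow_two]; exact a.toMul.2.2.2))
    have hβ : β = 0 := by
      refine bilin_two_eq_zero hB hQ'2' hV2 ρA ρB hA hB' β fun g a b => ?_
      obtain ⟨x, hx⟩ := QuotientGroup.mk_surjective (e g)
      have hex : e' g = QuotientGroup.mk (QuotientGroup.mk x) := by
        show (QuotientGroup.quotientQuotientEquivQuotient V Q hVQ).symm (e g) = _
        rw [MulEquiv.symm_apply_eq, ← hx]; rfl
      have hm : ∀ y ∈ Q, x * y * x⁻¹ ∈ Q := fun y hy => (inferInstance : Q.Normal).conj_mem y hy x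
      refine Additive.toMul.injective (Subtype.ext ?_)
      have hrel : ∀ c : Additive Q', (QuotientGroup.mk (x * s c.toMul * x⁻¹) : G ⧸ V) =
          ((Additive.toMul (ρA g c) : Q') : G ⧸ V) := by
        intro c
        show _ = ((Additive.toMul (conjEnd Q' Q' hQ'V (e' g) c) : Q') : G ⧸ V)
        rw [hex, conjEnd_mk]
        simp [hs]
      show ((Additive.toMul (cm (ρA g a) (ρA g b)) : V) : G) = _
      rw [hval _ _ _ _ (hm _ (hsQ a.toMul)) (hm _ (hsQ b.toMul)) (hrel a) (hrel b)]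
      show _ = ((Additive.toMul (conjEnd Q V (fun q hq v hv => hcen v hv q hq) (e g) (cm a b)) : V) : G)
      rw [← hx, conjEnd_mk]
      show _ = x * (s a.toMul * s b.toMul * (s a.toMul)⁻¹ * (s b.toMul)⁻¹) * x⁻¹
      group
    have hab : ∀ q ∈ Q, ∀ r ∈ Q, q * r = r * q := by
      intro q hq r hr
      have h := hval (Additive.ofMul (⟨_, mem_map_of_mem (QuotientGroup.mk' V) hq⟩ : Q'))
        (Additive.ofMul (⟨_, mem_map_of_mem (QuotientGroup.mk' V) hr⟩ : Q')) q r hq hr rfl rfl
      have h0 := DFunLike.congr_fun (DFunLike.congr_fun hβ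
        (Additive.ofMul (⟨_, mem_map_of_mem (QuotientGroup.mk' V) hq⟩ : Q')))
        (Additive.ofMul (⟨_, mem_map_of_mem (QuotientGroup.mk' V) hr⟩ : Q'))
      rw [show cm _ _ = _ from h0] at h
      rw [← mul_inv_eq_one, mul_inv_rev, ← mul_assoc]
      simpa using h.symm
    haveI hQc : IsMulCommutative Q := ⟨⟨fun a b => Subtype.ext (hab a a.2 b b.2)⟩⟩
    refine ⟨hQc, fun a ha => ?_⟩
    have h4' : ∀ z : Additive Q, 4 • z = 0 := fun z => Additive.toMul.injective (Subtype.ext (by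
      show ((Additive.toMul z : Q) : G) ^ 4 = 1
      have hz := hQ'2 _ (mem_map_of_mem (QuotientGroup.mk' V) z.toMul.2)
      rw [← map_pow, QuotientGroup.mk'_apply, QuotientGroup.eq_one_iff] at hz
      rw [show 4 = 2 * 2 from rfl, pow_mul, pow_two]
      exact hz.2.2))
    have := h4 (Additive Q) _ (conjEnd_normZero Q Q hQ le_rfl hfpf hab e) h4' (Additive.ofMul ⟨a, ha⟩)
    exact congrArg (fun z : Additive Q => ((Additive.toMul z : Q) : G)) this

end Cfsg.Agent.CNStructure
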