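import Cfsg.Agent.CNStructure.Socle
import Cfsg.Agent.CNStructure.Core
import Cfsg.Agent.CNStructure.BadCases
import Cfsg.Agent.CNStructure.SzInduct
import Cfsg.Agent.S3050
import Cfsg.Prelude.Def_Exceptional

/-!
# The structure of nonsolvable CN-groups
-/

set_option autoImplicit false

namespace Cfsg.Agent.CNStructure

open Subgroup
open scoped IsMulCommutative

universe u

/-- The module theory needed above a Suzuki group. -/
def SzModules : Prop :=
  ∀ (F : Type) [Field F] [Fintype F] [CharP F 2] (m : ℕ), 1 ≤ m → Fintype.card F = 2 ^ (2 * m + 1) →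
    BilinVanish.{u} F ↥(Cfsg.Lie.Sz F (2 ^ (m + 1))) ∧ NoFour.{u} ↥(Cfsg.Lie.Sz F (2 ^ (m + 1)))

variable {G : Type u} [Group G] [Finite G]

omit [Finite G] in
theorem oddFpf_of (Q : Subgroup G) (h : ∀ {x : G}, Odd (orderOf x) → x ≠ 1 → ∀ {q : G}, q ∈ Q →
    x * q * x⁻¹ = q → q = 1) : OddFpf Q := fun _ hx hx1 _ hq hc => h hx hx1 hq hc

/-- `SL(2,q)` is `PSL(2,q)` in characteristic two. -/
theorem sl_equiv_psl {F : Type} [Field F] [CharP F 2] :
    Nonempty (Matrix.SpecialLinearGroup (Fin 2) F ≃* Matrix.ProjectiveSpecialLinearGroup (Fin 2) F) := by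
  refine ⟨MulEquiv.ofBijective (QuotientGroup.mk' _)
    ⟨(MonoidHom.ker_eq_bot_iff _).1 ?_, QuotientGroup.mk'_surjective _⟩⟩
  rw [QuotientGroup.ker_mk', eq_bot_iff_forall]
  intro g hg
  obtain ⟨c, hc, e⟩ := Matrix.SpecialLinearGroup.mem_center_iff.1 hg
  rw [Fintype.card_fin, sq_eq_one_iff, CharTwo.neg_eq, or_self] at hc
  subst hc
  exact Subtype.ext (by rw [← e]; simp)

omit [Finite G] in
theorem map_top_quotient {T : Subgroup G} (h : T = ⊤) : Nonempty (G ≃* T) :=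
  ⟨(topEquiv.symm.trans (MulEquiv.subgroupCongr h.symm))⟩

/-- Above a nontrivial 2-core. -/
theorem above_core (hsz : SzModules.{u}) (hns : ¬ Group.IsSolvable G) (hcn : Cfsg.IsCNGroup G)
    (hQ1 : Cfsg.pCore 2 G ≠ ⊥) :
    ∃ (N : Subgroup G) (_ : N.Normal), N ≠ ⊥ ∧ IsPGroup 2 N ∧ IsMulCommutative N ∧ (∀ x ∈ N, x * x = 1) ∧
        ((∃ (F : Type) (_ : Field F) (_ : Fintype F), CharP F 2 ∧ 4 ≤ Fintype.card F ∧
            Nonempty (G ⧸ N ≃* Matrix.ProjectiveSpecialLinearGroup (Fin 2) F)) ∨ Cfsg.IsSuzuki (G ⧸ N)) := by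
  classical
  haveI : Fact (Nat.Prime 2) := ⟨Nat.prime_two⟩
  set Q := Cfsg.pCore 2 G
  have hQ : IsPGroup 2 Q := Core.pCore_isPGroup
  have hfpf : OddFpf Q := fun x hx hx1 q hq hc => odd_fpf hns hcn Q hQ hQ1 hx hx1 hq hc
  obtain ⟨hns', hcn', hR⟩ := quotient_core hns hcn
  obtain ⟨T, hTn, hTs, hTna, hcase⟩ := almost_simple hns' hcn' hR
  haveI := hTs
  -- the socle cannot be of bad type
  have hbad : ¬ Bad T := by
    intro hb
    set V := omegaCenter Q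
    haveI : V.Normal := omegaCenter_normal Q
    haveI : IsMulCommutative V := ⟨⟨fun a b => Subtype.ext (b.2.2.1 a a.2.1)⟩⟩
    have hQV : ∀ q ∈ Q, ∀ v ∈ V, q * v = v * q := fun q hq v hv => hv.2.1 q hq
    have h2 : (2 : AddMonoid.End (Additive V)) = 0 := two_eq_zero V fun v hv => hv.2.2
    have hN : ∀ (g : T) (n : ℕ), Odd n → g ^ n = 1 → g ≠ 1 →
        ∑ j ∈ Finset.range n, ((conjEnd Q V hQV).comp T.subtype) g ^ j = 0 := fun g n hn hg hg1 =>
      norm_zero Q V hQV hQ (fun y hy hy1 v hv h => hfpf y hy hy1 v hv.1 h) hn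
        (congrArg Subtype.val hg) fun e => hg1 (Subtype.ext e)
    have h10 : (1 : AddMonoid.End (Additive V)) = 0 := by
      rcases hb with ⟨F, _, _, hodd, hq, ⟨f⟩⟩ | ⟨F, _, _, hq, ⟨f⟩⟩
      · exact psl_two_absurd h2 _ hN hodd hq f.symm.toMonoidHom f.symm.injective
      · exact psl_three_absurd h2 _ hN hq f.symm.toMonoidHom f.symm.injective
    obtain ⟨v, hv, hv1⟩ := (bot_or_exists_ne_one V).resolve_left (omegaCenter_ne_bot hQ hQ1)
    have e := congrArg (fun z : Additive V => ((Additive.toMul z : V) : G))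
      (DFunLike.congr_fun h10 (Additive.ofMul (⟨v, hv⟩ : V)))
    exact hv1 e
  obtain ⟨hT, hgood⟩ : T = ⊤ ∧ Good T := by
    rcases hcase with ⟨hT, hg | hb⟩ | ⟨hb, -⟩
    · exact ⟨hT, hg⟩
    · exact absurd hb hbad
    · exact absurd hb hbad
  obtain ⟨top⟩ := map_top_quotient hT
  have elem : Cfsg.IsElementaryAbelian 2 Q →
      Q ≠ ⊥ ∧ IsPGroup 2 Q ∧ IsMulCommutative Q ∧ ∀ x ∈ Q, x * x = 1 := fun h =>
    ⟨hQ1, hQ, h.1, fun x hx => by rw [← pow_two]; exact h.2 x hx⟩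
  rcases hgood with ⟨F, _, _, n, hn, hF, ⟨f⟩⟩ | ⟨F, _, _, m, hm, hF, ⟨f⟩⟩
  · haveI := PrimeGraphCIT.charP_two_of_card hF
    obtain ⟨s⟩ := sl_equiv_psl (F := F)
    obtain ⟨x, hx⟩ := exists_prime_orderOf_dvd_card' (hp := ⟨Nat.prime_three⟩) (G := G) 3 (by
      refine dvd_trans ?_ (card_quotient_dvd_card Q)
      rw [Nat.card_congr (top.trans f).toEquiv]
      exact PrimeGraphCIT.three_dvd_psl_two F)
    have hel := (Cfsg.Agent.S3050.result Q hQ n hn F hF ((top.trans f).trans s.symm) x hx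
      fun q hq hc => hfpf x (by rw [hx]; decide) (fun e => by rw [e, orderOf_one] at hx; omega) q hq hc).1
    obtain ⟨h1, h2, h3, h4⟩ := elem hel
    exact ⟨Q, inferInstance, h1, h2, h3, h4, Or.inl ⟨F, _, _, inferInstance,
      (show 4 ≤ Fintype.card F by rw [hF]; exact Nat.pow_le_pow_right (n := 2) two_pos hn), ⟨top.trans f⟩⟩⟩
  · haveI := PrimeGraphCIT.charP_two_of_card hF
    obtain ⟨g⟩ := Suzuki.nonempty_equiv hm hF
    obtain ⟨hB, h4⟩ := hsz F m hm hF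
    have hel := sz_core_elementary hB h4 (Nat.card Q) G Q le_rfl hQ (g.symm.trans (f.symm.trans top.symm)) hfpf
    obtain ⟨h1, h2, h3, h4⟩ := elem hel
    refine ⟨Q, inferInstance, h1, h2, h3, h4, Or.inr ⟨?_, m, hm, ?_⟩⟩
    · exact MulEquiv.isSimpleGroup top
    · rw [Nat.card_congr (top.trans f).toEquiv, Suzuki.card_sz hm hF, Nat.card_eq_fintype_card, hF]
      ring

/-- The structure theorem. -/
theorem cn_structure (hsz : SzModules.{u}) (hns : ¬ Group.IsSolvable G) (hcn : Cfsg.IsCNGroup G) :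
    (IsSimpleGroup G ∧ ¬ IsMulCommutative G) ∨
    (∃ (N : Subgroup G), N.Normal ∧ N.index = 2 ∧ ∃ (F : Type) (_ : Field F) (_ : Fintype F), Fintype.card F = 9 ∧
        Nonempty (N ≃* Matrix.ProjectiveSpecialLinearGroup (Fin 2) F)) ∨
    (∃ (N : Subgroup G) (_ : N.Normal), N ≠ ⊥ ∧ IsPGroup 2 N ∧ IsMulCommutative N ∧ (∀ x ∈ N, x * x = 1) ∧
        ((∃ (F : Type) (_ : Field F) (_ : Fintype F), CharP F 2 ∧ 4 ≤ Fintype.card F ∧
            Nonempty (G ⧸ N ≃* Matrix.ProjectiveSpecialLinearGroup (Fin 2) F)) ∨ Cfsg.IsSuzuki (G ⧸ N))) := by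
  rcases eq_or_ne (Cfsg.pCore 2 G) ⊥ with hQ | hQ
  · have hR : ∀ N : Subgroup G, N.Normal → Group.IsSolvable N → N = ⊥ := fun N hN hs =>
      by_contra fun hne => (haveI := hN; two_core_ne_bot hns hcn N hs hne) hQ
    obtain ⟨T, hTn, hTs, hTna, hcase⟩ := almost_simple hns hcn hR
    rcases hcase with ⟨hT, -⟩ | ⟨-, hidx, h9⟩
    · obtain ⟨top⟩ := map_top_quotient hT
      haveI := hTs
      exact Or.inl ⟨MulEquiv.isSimpleGroup top,
        fun hc => hTna ⟨⟨fun a b => Subtype.ext (hc.is_comm.comm (a : G) b)⟩⟩⟩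
    · exact Or.inr (Or.inl ⟨T, hTn, hidx, h9⟩)
  · exact Or.inr (Or.inr (above_core hsz hns hcn hQ))

end Cfsg.Agent.CNStructure
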