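import Cfsg.Agent.PrimeGraphCIT.Reduce

/-!
# Outer elements of CIT groups above a normal subgroup containing a real element of odd prime order
-/

set_option autoImplicit false

namespace Cfsg.Agent.CNStructure

open Subgroup
open PrimeGraphCIT (CIT)

variable {G : Type*} [Group G] [Finite G]

/-- An involution fixes some element of a coset of an odd-order cyclic group which it stabilises. -/
theorem exists_fixed_in_coset {w y : G} (hw : w * w = 1) (ho : Odd (orderOf (y⁻¹ * (w * y * w)))) :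
    ∃ v ∈ zpowers (y⁻¹ * (w * y * w)), Commute w (y * v) := by
  set u := y⁻¹ * (w * y * w) with hu
  obtain ⟨k, hk⟩ := ho
  have hwi : w⁻¹ = w := inv_eq_of_mul_eq_one_right hw
  have hinv : w * u * w⁻¹ = u⁻¹ := by
    have hw' : ∀ z : G, w * (w * z) = z := fun z => by rw [← mul_assoc, hw, one_mul]
    simp only [hu, hwi, mul_inv_rev, inv_inv, mul_assoc, hw, mul_one]
  refine ⟨u ^ (k + 1), pow_mem (mem_zpowers u) _, ?_⟩
  have h2 : u ^ (k + 1) * u ^ (k + 1) = u := by
    rw [← pow_add, show k + 1 + (k + 1) = (2 * k + 1) + 1 by ring, pow_succ, ← hk, pow_orderOf_eq_one,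
      one_mul]
  have hy : w * y * w = y * u := by rw [hu, mul_inv_cancel_left]
  have hv : w * u ^ (k + 1) * w = (u ^ (k + 1))⁻¹ := by
    have := congrArg (· ^ (k + 1)) hinv
    simp only [conj_pow] at this
    rw [inv_pow, hwi] at this
    exact this
  have h3 : w * (y * u ^ (k + 1)) * w = y * u ^ (k + 1) := by
    calc w * (y * u ^ (k + 1)) * w = (w * y * w) * (w * u ^ (k + 1) * w) := by
          simp only [mul_assoc, ← mul_assoc w w, hw, one_mul]
      _ = y * u ^ (k + 1) := by
          rw [hy, hv]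
          nth_rw 1 [← h2]
          group
  show w * _ = _ * w
  calc w * (y * u ^ (k + 1)) = w * (y * u ^ (k + 1)) * w * w := by rw [mul_assoc _ w w, hw, mul_one]
    _ = y * u ^ (k + 1) * w := by rw [h3]

/-- No involution commutes with a non-trivial element of odd order. -/
theorem CIT_no_odd (h : CIT G) {w x : G} (hw : w * w = 1) (hw1 : w ≠ 1) (hx : Odd (orderOf x))
    (hx1 : x ≠ 1) (hc : Commute w x) : False := by
  obtain ⟨r, hr, hrd⟩ := Nat.exists_prime_and_dvd (mt orderOf_eq_one_iff.1 hx1)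
  have hr2 : r ≠ 2 := fun e => Nat.not_even_iff_odd.2 hx (even_iff_two_dvd.2 (e ▸ hrd))
  exact h.no_commute hw1 ⟨1, by rw [pow_one, pow_two, hw]⟩ hr hr2
    (orderOf_pow_orderOf_div (orderOf_pos x).ne' hrd) (hc.pow_right _)

/-- The centraliser of an element of odd prime order has odd order. -/
theorem CIT_odd_centralizer (h : CIT G) {a : G} {r : ℕ} (hr : r.Prime) (hr2 : r ≠ 2)
    (ha : orderOf a = r) {c : G} (hc : Commute a c) : Odd (orderOf c) := by
  by_contra he
  rw [Nat.not_odd_iff_even, even_iff_two_dvd] at he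
  have h2 := orderOf_pow_orderOf_div (orderOf_pos c).ne' he
  set t := c ^ (orderOf c / 2)
  exact h.no_commute (fun e => absurd ((orderOf_eq_one_iff.2 e).symm.trans h2) (by norm_num))
    ⟨1, (pow_one 2).symm ▸ (show t ^ 2 = 1 by rw [← pow_orderOf_eq_one t, h2])⟩ hr hr2 ha (hc.pow_right _).symm

omit [Finite G] in
/-- An odd power of an inverting element inverts. -/
theorem inverts_odd_pow {w a : G} (h : w * a * w⁻¹ = a⁻¹) (m : ℕ) :
    w ^ (2 * m + 1) * a * (w ^ (2 * m + 1))⁻¹ = a⁻¹ := by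
  induction m with
  | zero => simpa using h
  | succ m ih =>
    have h' : w * a⁻¹ * w⁻¹ = a := by
      have := congrArg Inv.inv h
      rw [inv_inv, mul_inv_rev, mul_inv_rev, inv_inv] at this
      rw [mul_assoc, this]
    rw [show 2 * (m + 1) + 1 = 1 + 1 + (2 * m + 1) by ring, pow_add, pow_add, pow_one, mul_inv_rev,
      mul_inv_rev]
    calc w * w * w ^ (2 * m + 1) * a * ((w ^ (2 * m + 1))⁻¹ * (w⁻¹ * w⁻¹))
        = w * (w * (w ^ (2 * m + 1) * a * (w ^ (2 * m + 1))⁻¹) * w⁻¹) * w⁻¹ := by group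
      _ = a⁻¹ := by rw [ih, h', h]

variable (L : Subgroup G) [L.Normal]

/-- An inverted element is inverted by an involution of `L`. -/
theorem exists_inverting_invol (h : CIT G) {a : G} {r : ℕ} (hr : r.Prime) (hr2 : r ≠ 2)
    (ha : orderOf a = r) {w : G} (hwL : w ∈ L) (hw : w * a * w⁻¹ = a⁻¹) :
    ∃ t ∈ L, t * t = 1 ∧ t ≠ 1 ∧ t * a * t⁻¹ = a⁻¹ := by
  obtain ⟨k, m, hm, hd⟩ := Nat.exists_eq_pow_mul_and_not_dvd (orderOf_pos w).ne' 2 (by decide)
  obtain ⟨j, hj⟩ : Odd m := Nat.odd_iff.2 (by omega)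
  set t := w ^ m
  have ht : t * a * t⁻¹ = a⁻¹ := by rw [show t = w ^ (2 * j + 1) by rw [← hj]]; exact inverts_odd_pow hw j
  have ht1 : t ≠ 1 := fun e => by
    rw [e, one_mul, inv_one, mul_one] at ht
    have h2 : a ^ 2 = 1 := by rw [pow_two]; nth_rw 1 [ht]; exact inv_mul_cancel a
    exact hr2 ((Nat.prime_dvd_prime_iff_eq hr Nat.prime_two).1 (ha ▸ orderOf_dvd_of_pow_eq_one h2))
  refine ⟨t, pow_mem hwL m, ?_, ht1, ht⟩
  have h2k : t ^ 2 ^ k = 1 := by rw [← pow_mul, mul_comm, ← hd, pow_orderOf_eq_one]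
  have hc : Commute a (t * t) := by
    have e : t * (t * a * t⁻¹) * t⁻¹ = a := by
      rw [ht]
      have := congrArg Inv.inv ht
      rw [inv_inv, mul_inv_rev, mul_inv_rev, inv_inv] at this
      rw [mul_assoc, this]
    show a * (t * t) = t * t * a
    nth_rw 1 [← e]
    group
  by_contra hne
  exact h.no_commute hne ⟨k, by rw [← pow_two, ← pow_mul, mul_comm, pow_mul, h2k, one_pow]⟩ hr hr2 ha hc.symm

/-- The centraliser of a real element of odd prime order of `L` lies in `L`. -/
theorem centralizer_le_of_real (h : CIT G) {a : G} {r : ℕ} (hr : r.Prime) (hr2 : r ≠ 2)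
    (ha : orderOf a = r) {w : G} (hwL : w ∈ L) (hw : w * a * w⁻¹ = a⁻¹) {y : G} (hy : Commute a y) :
    y ∈ L := by
  by_contra hyL
  obtain ⟨t, htL, ht2, ht1, hta⟩ := exists_inverting_invol L h hr hr2 ha hwL hw
  have hti : t⁻¹ = t := inv_eq_of_mul_eq_one_right ht2
  have hc : Commute a (t * y * t) := by
    have h1 := Commute.inv_left hy
    have h2 : Commute (t * a⁻¹ * t⁻¹) (t * y * t⁻¹) := (Commute.conj_iff t).2 h1
    have e : t * a⁻¹ * t⁻¹ = a := by
      have := congrArg Inv.inv hta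
      rw [inv_inv, mul_inv_rev, mul_inv_rev, inv_inv] at this
      rw [mul_assoc, this]
    rw [e, hti] at h2
    exact h2
  have hu : Commute a (y⁻¹ * (t * y * t)) := (hy.inv_right).mul_right hc
  obtain ⟨v, hv, hcv⟩ := exists_fixed_in_coset ht2 (CIT_odd_centralizer h hr hr2 ha hu)
  have huL : y⁻¹ * (t * y * t) ∈ L := by
    rw [← mul_assoc, ← mul_assoc]
    exact L.mul_mem (Normal.conj_mem' inferInstance t htL y) htL
  have hvL : v ∈ L := zpowers_le.2 huL hv
  have hvC : Commute a v := by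
    obtain ⟨i, rfl⟩ := mem_zpowers_iff.1 hv
    exact hu.zpow_right i
  refine CIT_no_odd h ht2 ht1 (CIT_odd_centralizer h hr hr2 ha (hy.mul_right hvC)) (fun e => hyL ?_) hcv
  rw [eq_inv_of_mul_eq_one_left e]
  exact L.inv_mem hvL

/-- The index is at most the number of classes of real elements of one odd prime order. -/
theorem index_le_card {ι : Type*} [Fintype ι] (h : CIT G) {r : ℕ} (hr : r.Prime) (hr2 : r ≠ 2)
    (a : L) (ha : orderOf a = r) (w : L) (hw : w * a * w⁻¹ = a⁻¹)
    (k : ι → L) (hk : ∀ b : L, orderOf b = r → ∃ i, IsConj (k i) b) :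
    L.index ≤ Fintype.card ι := by
  classical
  have hao : orderOf (a : G) = r := by rw [Subgroup.orderOf_coe, ha]
  have hcL : ∀ y : G, Commute (a : G) y → y ∈ L := fun y hy =>
    centralizer_le_of_real L h hr hr2 hao w.2 (by exact congrArg Subtype.val hw) hy
  have hsel : ∀ g : G, ∃ i, IsConj (k i) (MulAut.conjNormal g a : L) := fun g =>
    hk _ (by rw [MulEquiv.orderOf_eq, ha])
  choose f hf using hsel
  rw [Subgroup.index_eq_card, ← Nat.card_eq_fintype_card]
  refine Nat.card_le_card_of_injective (fun c : G ⧸ L => f c.out) fun c d e => ?_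
  have hcd : IsConj (MulAut.conjNormal c.out a : L) (MulAut.conjNormal d.out a) :=
    (hf c.out).symm.trans (by rw [show f c.out = f d.out from e]; exact hf d.out)
  obtain ⟨l, hl⟩ := isConj_iff.1 hcd
  have hl' := congrArg Subtype.val hl
  simp only [Subgroup.coe_mul, Subgroup.coe_inv, MulAut.conjNormal_apply] at hl'
  have hm : d.out⁻¹ * l * c.out ∈ L := hcL _ (by
    show (a : G) * _ = _ * _
    calc (a : G) * (d.out⁻¹ * l * c.out) = d.out⁻¹ * (d.out * a * d.out⁻¹) * l * c.out := by group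
      _ = d.out⁻¹ * l * c.out * a := by rw [← hl']; group)
  rw [← QuotientGroup.out_eq' c, ← QuotientGroup.out_eq' d, QuotientGroup.eq]
  have hl2 := Normal.conj_mem' (inferInstance : L.Normal) (l : G) l.2 d.out
  have := L.mul_mem (L.inv_mem hl2) hm
  rw [show (d.out⁻¹ * (l : G) * d.out)⁻¹ * (d.out⁻¹ * l * c.out) = d.out⁻¹ * c.out by group] at this
  simpa using L.inv_mem this

end Cfsg.Agent.CNStructure
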