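import Cfsg.Agent.CNStructure.Cit
import Cfsg.Agent.CNStructure.Classes
import Cfsg.Agent.CNStructure.LThree
import Cfsg.Agent.CITPair.Main
import Cfsg.Agent.PrimeGraphCIT.Cases
import Cfsg.Agent.SubA8.Basic
import Cfsg.Agent.S0252
import Cfsg.Agent.S0253

/-!
# CN-groups without solvable normal subgroups
-/

set_option autoImplicit false

namespace Cfsg.Agent.CNStructure

open Subgroup
open PrimeGraphCIT (CIT)

universe u

/-- The simple CN-groups which occur as quotients of larger CN-groups. -/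
def Good (T : Type u) [Group T] : Prop :=
  (∃ (F : Type) (_ : Field F) (_ : Fintype F) (n : ℕ), 2 ≤ n ∧ Fintype.card F = 2 ^ n ∧
      Nonempty (T ≃* Matrix.ProjectiveSpecialLinearGroup (Fin 2) F)) ∨
    ∃ (F : Type) (_ : Field F) (_ : Fintype F) (m : ℕ), 1 ≤ m ∧ Fintype.card F = 2 ^ (2 * m + 1) ∧
      Nonempty (T ≃* Cfsg.Sz F m)

/-- The simple CN-groups which do not occur as quotients of larger CN-groups. -/
def Bad (T : Type u) [Group T] : Prop :=
  (∃ (F : Type) (_ : Field F) (_ : Fintype F), ringChar F ≠ 2 ∧ 7 ≤ Fintype.card F ∧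
      Nonempty (T ≃* Matrix.ProjectiveSpecialLinearGroup (Fin 2) F)) ∨
    ∃ (F : Type) (_ : Field F) (_ : Fintype F), Fintype.card F = 4 ∧
      Nonempty (T ≃* Matrix.ProjectiveSpecialLinearGroup (Fin 3) F)

variable {G : Type u} [Group G] [Finite G]

omit [Finite G] in
theorem exists_prime_three_mod_four : ∀ n : ℕ, n % 4 = 3 → ∃ r : ℕ, r.Prime ∧ r % 4 = 3 ∧ r ∣ n := by
  intro n
  induction n using Nat.strong_induction_on with
  | _ n ih =>
    intro hn
    obtain ⟨p, hp, m, rfl⟩ := Nat.exists_prime_and_dvd (show n ≠ 1 by omega)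
    by_cases hp3 : p % 4 = 3
    · exact ⟨p, hp, hp3, dvd_mul_right _ _⟩
    have hp1 : p % 4 = 1 := by
      rcases hp.eq_two_or_odd with rfl | h
      · omega
      · omega
    have hm : m % 4 = 3 := by
      rw [Nat.mul_mod, hp1, one_mul, Nat.mod_mod] at hn
      exact hn
    obtain ⟨r, hr, hr4, hrm⟩ := ih m (by nlinarith [hp.two_le, show 0 < m by omega]) hm
    exact ⟨r, hr, hr4, hrm.mul_left _⟩

/-- An odd-characteristic `PSL(2,q)` with one class of elements of order three is everything. -/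
theorem eq_top_of_psl_odd (h : CIT G) (T : Subgroup G) [T.Normal] {F : Type} [Field F] [Fintype F]
    (h3 : (3 : F) ≠ 0) (f : T ≃* Matrix.ProjectiveSpecialLinearGroup (Fin 2) F) : T = ⊤ := by
  obtain ⟨a, ha⟩ := exists_prime_orderOf_dvd_card' (hp := ⟨Nat.prime_three⟩) (G := T) 3
    (Nat.card_congr f.toEquiv ▸ PrimeGraphCIT.three_dvd_psl_two F)
  have hclass : ∀ b : T, orderOf b = 3 → IsConj a b := fun b hb => by
    have := f.symm.toMonoidHom.map_isConj (psl_three h3 (f a) (f b) (by rw [MulEquiv.orderOf_eq, ha])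
      (by rw [MulEquiv.orderOf_eq, hb]))
    simpa using this
  obtain ⟨w, hw⟩ := isConj_iff.1 (hclass a⁻¹ (by rw [orderOf_inv, ha]))
  have hle := index_le_card T h Nat.prime_three (by norm_num) a ha w hw (fun _ : Unit => a)
    fun b hb => ⟨(), hclass b hb⟩
  rw [Fintype.card_unit] at hle
  exact index_eq_one.1 (le_antisymm hle (Nat.one_le_iff_ne_zero.2 index_ne_zero_of_finite))

/-- Above `PSL(2,9)` the index is at most two. -/
theorem index_le_two_of_psl_nine (h : CIT G) (T : Subgroup G) [T.Normal] {F : Type} [Field F] [Fintype F]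
    (hF : Fintype.card F = 9) (f : T ≃* Matrix.ProjectiveSpecialLinearGroup (Fin 2) F) : T.index ≤ 2 := by
  have h5 : (5 : F) ≠ 0 := by
    have := charP_of_card_eq_prime_pow (R := F) (p := 3) (f := 2) (hp := ⟨Nat.prime_three⟩) (by rw [hF]; rfl)
    rw [show (5 : F) = ((5 : ℕ) : F) by norm_num, Ne, CharP.cast_eq_zero_iff F 3]
    norm_num
  have hcard : Nat.card T = 360 := by
    have := PrimeGraphCIT.card_psl_mul_two (F := F)
    rw [hF] at this
    rw [Nat.card_congr f.toEquiv]
    norm_num at this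
    omega
  obtain ⟨a, ha⟩ := exists_prime_orderOf_dvd_card' (hp := ⟨Nat.prime_five⟩) (G := T) 5 (by rw [hcard]; norm_num)
  obtain ⟨hreal, hthree⟩ := psl_five (F := F) h5
  have hconj : ∀ b c : T, IsConj (f b) (f c) → IsConj b c := fun b c e => by
    simpa using f.symm.toMonoidHom.map_isConj e
  have hfo : ∀ b : T, orderOf b = 5 → orderOf (f b) = 5 := fun b hb => by rw [MulEquiv.orderOf_eq, hb]
  obtain ⟨w, hw⟩ := isConj_iff.1 (hconj a a⁻¹ (by rw [map_inv]; exact hreal _ (hfo a ha)))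
  obtain ⟨b, hb⟩ : ∃ b : T, ∀ c : T, orderOf c = 5 → IsConj a c ∨ IsConj b c := by
    by_cases hall : ∀ c : T, orderOf c = 5 → IsConj a c
    · exact ⟨a, fun c hc => Or.inl (hall c hc)⟩
    · push Not at hall
      obtain ⟨b, hb5, hab⟩ := hall
      refine ⟨b, fun c hc => ?_⟩
      rcases hthree _ _ _ (hfo a ha) (hfo b hb5) (hfo c hc) with e | e | e
      · exact absurd (hconj _ _ e) hab
      · exact Or.inl (hconj _ _ e)
      · exact Or.inr (hconj _ _ e)
  have := index_le_card T h Nat.prime_five (by norm_num) a ha w hw ![a, b] fun c hc =>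
    (hb c hc).elim (fun e => ⟨0, e⟩) fun e => ⟨1, e⟩
  simpa using this

/-- CN-groups without solvable normal subgroups. -/
theorem almost_simple (hns : ¬ Group.IsSolvable G) (hcn : Cfsg.IsCNGroup G)
    (hR : ∀ N : Subgroup G, N.Normal → Group.IsSolvable N → N = ⊥) :
    ∃ T : Subgroup G, T.Normal ∧ IsSimpleGroup T ∧ ¬ IsMulCommutative T ∧
      ((T = ⊤ ∧ (Good T ∨ Bad T)) ∨ (Bad T ∧ T.index = 2 ∧
        ∃ (F : Type) (_ : Field F) (_ : Fintype F), Fintype.card F = 9 ∧
          Nonempty (T ≃* Matrix.ProjectiveSpecialLinearGroup (Fin 2) F))) := by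
  have hF : ∀ N : Subgroup G, N.Normal → Group.IsNilpotent N → N = ⊥ := fun N hN hn =>
    hR N hN (by haveI := hn; infer_instance)
  have hcit := cit_of_cn hns hcn hF
  have hodd : ∀ (H : Type u) [Group H] [Finite H], Odd (Nat.card H) → Group.IsSolvable H :=
    fun H _ _ hH => Cfsg.Agent.S0205.result hH
  have hO : ∀ N : Subgroup G, N.Normal → IsPGroup 2 N → N = ⊥ := fun N hN h2 =>
    haveI : Fact (Nat.Prime 2) := ⟨Nat.prime_two⟩
    hF N hN h2.isNilpotent
  obtain ⟨T, hTn, hTs, hTna, -⟩ := hcit.exists_socle hodd hns hO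
  haveI := hTn
  haveI := hTs
  refine ⟨T, hTn, hTs, hTna, ?_⟩
  have hab := not_simple_comm hTna
  have even : ∀ (F : Type) [Field F] [Fintype F] (n : ℕ), 2 ≤ n → Fintype.card F = 2 ^ n →
      (T ≃* Matrix.ProjectiveSpecialLinearGroup (Fin 2) F) → T = ⊤ ∧ (Good T ∨ Bad T) := by
    intro F _ _ n hn hFc f
    exact ⟨PrimeGraphCIT.eq_top_of_psl hFc f hcit, Or.inl (Or.inl ⟨F, _, _, n, hn, hFc, ⟨f⟩⟩)⟩
  have small : Nat.card T ∣ 2 ^ 2 * 3 ^ 1 → False := fun hd =>
    haveI := SubA8.solvable_two_primes 2 3 Nat.prime_two Nat.prime_three hd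
    hTna ⟨⟨fun a b => IsSimpleGroup.comm_iff_isSolvable.2 this a b⟩⟩
  rcases CITPair.classification (G := T) hab (hcit.subgroup T) with
    ⟨F, _, _, hq, ⟨f⟩⟩ | ⟨F, _, _, hq, ⟨f⟩⟩ | ⟨F, _, _, m, hm, hq, ⟨f⟩⟩
  · have hcard := PrimeGraphCIT.card_psl_mul_two (F := F)
    rw [← Nat.card_congr f.toEquiv] at hcard
    rcases hq with h9 | ⟨n, hn⟩ | ⟨hp, k, hk⟩
    · have hchar : ringChar F ≠ 2 := fun e => by
        haveI : Fact (Nat.Prime 3) := ⟨Nat.prime_three⟩
        have := charP_of_card_eq_prime_pow (R := F) (p := 3) (f := 2) (by rw [h9]; rfl)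
        rw [ringChar.eq F 3] at e
        omega
      have hbad : Bad T := Or.inl ⟨F, _, _, hchar, by omega, ⟨f⟩⟩
      have hle := index_le_two_of_psl_nine hcit T h9 f
      rcases (show T.index = 1 ∨ T.index = 2 by
        have := T.index_ne_zero_of_finite; omega) with e | e
      · exact Or.inl ⟨index_eq_one.1 e, Or.inr hbad⟩
      · exact Or.inr ⟨hbad, e, F, _, _, h9, ⟨f⟩⟩
    · left
      rcases n with _ | _ | n
      · exact absurd (hn ▸ Fintype.one_lt_card) (by norm_num)
      · rw [hn] at hcard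
        norm_num at hcard
        exact (small (hcard ▸ by norm_num)).elim
      · exact even F (n + 2) (by omega) hn f
    · set q := Fintype.card F with hqdef
      haveI := Fact.mk hp
      haveI : CharP F q := charP_of_card_eq_prime_pow (f := 1) (by rw [pow_one])
      rcases (show q = 2 ∨ q = 3 ∨ q = 5 ∨ 7 ≤ q by
        rcases Nat.lt_or_ge q 7 with h | h
        · interval_cases q <;> first | omega | (norm_num at hp)
        · omega) with e | e | e | e
      · rw [e] at hcard; norm_num at hcard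
        exact (small (hcard ▸ by norm_num)).elim
      · rw [e] at hcard; norm_num at hcard
        exact (small (by rw [show Nat.card T = 12 by omega]; norm_num)).elim
      · obtain ⟨g⟩ := Cfsg.Agent.S0253.result (F := F) e
        letI : Fintype (GaloisField 2 2) := Fintype.ofFinite _
        have h4 : Fintype.card (GaloisField 2 2) = 4 := by
          rw [← Nat.card_eq_fintype_card, GaloisField.card 2 2 (by norm_num)]; norm_num
        obtain ⟨g'⟩ := Cfsg.Agent.S0252.result (F := GaloisField 2 2) h4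
        exact Or.inl (even _ 2 le_rfl h4 ((f.trans g).trans g'.symm))
      · have h3 : (3 : F) ≠ 0 := by
          rw [show (3 : F) = ((3 : ℕ) : F) by norm_num, Ne, CharP.cast_eq_zero_iff F q]
          exact fun hd => by have := Nat.le_of_dvd (by norm_num) hd; omega
        exact Or.inl ⟨eq_top_of_psl_odd hcit T h3 f, Or.inr (Or.inl ⟨F, _, _,
          by rw [ringChar.eq F q]; omega, e, ⟨f⟩⟩)⟩
  · have hcard : Nat.card T = 20160 :=
      (Nat.card_congr f.toEquiv).trans (PrimeGraphCIT.card_psl_three_four hq)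
    exact Or.inl ⟨eq_top_of_five_seven hcit T (by rw [hcard]; norm_num) (by rw [hcard]; norm_num)
      (by rw [hcard]; norm_num) (by rw [hcard]; norm_num), Or.inr (Or.inr ⟨F, _, _, hq, ⟨f⟩⟩)⟩
  · obtain ⟨g⟩ := Suzuki.nonempty_equiv hm hq
    have h4 : (2 ^ (2 * m + 1) - 1) % 4 = 3 := by
      have : 2 ^ (2 * m + 1) = 4 * (2 ^ (2 * m - 1)) := by
        rw [show (4 : ℕ) = 2 ^ 2 from rfl, ← pow_add]; congr 1; omega
      have := Nat.one_le_two_pow (n := 2 * m - 1)
      omega
    obtain ⟨r, hr, hr4, hrd⟩ := exists_prime_three_mod_four _ h4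
    exact Or.inl ⟨PrimeGraphCIT.eq_top_of_sz hm hq (f.trans g.symm) hcit hr hr4
      (by rwa [Nat.card_eq_fintype_card, hq]), Or.inl (Or.inr ⟨F, _, _, m, hm, hq, ⟨f.trans g.symm⟩⟩)⟩

end Cfsg.Agent.CNStructure
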