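import Cfsg.Agent.CNStructure.SzNatural

/-!
# No invariant pairing between fixed-point-free representations of a Suzuki group

`bilin_eq_zero`: an equivariant bilinear map `V × W → X` between representations in which every non-trivial
element of odd order has norm zero vanishes. By dévissage with `exists_natural` all three are twisted natural
modules; there the torus weights and the unipotent elements leave no room for a non-zero map.
-/

set_option autoImplicit false

open Finset Cfsg.Agent.SzDeg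

namespace Cfsg.Agent.CNStructure

section Natural

variable {F : Type*} [Field F] [Fintype F] [CharP F 2] {m : ℕ}

set_option quotPrecheck false in
local notation "SzG" => ↥(Cfsg.Lie.Sz F (2 ^ (m + 1)))

/-- The twisted natural action. -/
def act (σ : F ≃+* F) (g : ↥(Cfsg.Lie.Sz F (2 ^ (m + 1)))) : Module.End F (Fin 4 → F) :=
  ((mat g).map σ).mulVecLin

omit [Fintype F] [CharP F 2] in
theorem act_mul (σ : F ≃+* F) (g h : SzG) (x : Fin 4 → F) : act σ (g * h) x = act σ g (act σ h x) := by
  simp only [act, Matrix.mulVecLin_apply, Matrix.mulVec_mulVec]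
  congr 1
  exact map_mul σ.toRingHom.mapMatrix (mat g) (mat h)

omit [Fintype F] [CharP F 2] in
theorem act_one (σ : F ≃+* F) (x : Fin 4 → F) : act σ (1 : SzG) x = x := by
  simp [act, mat, Matrix.map_one]

omit [Fintype F] [CharP F 2] in
theorem act_apply (σ : F ≃+* F) (g : SzG) (x : Fin 4 → F) (i : Fin 4) :
    act σ g x i = σ (mat g i 0) * x 0 + σ (mat g i 1) * x 1 + σ (mat g i 2) * x 2 + σ (mat g i 3) * x 3 := by
  simp [act, Matrix.mulVec, dotProduct, Fin.sum_univ_four]

theorem exists_pow_ne (hm : 1 ≤ m) (hF : Fintype.card F = 2 ^ (2 * m + 1)) :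
    ∃ t : Fˣ, (t : F) ≠ 1 ∧ (t : F) ^ 2 ^ (m + 1) ≠ t := by
  obtain ⟨t, ht⟩ := exists_unit_ne_one hm hF
  refine ⟨t, fun h => ht (Units.ext h), fun h => ht (Units.ext ?_)⟩
  have := NilCover.pow_e_e hF (t : F)
  rw [h, h, pow_two] at this
  exact mul_left_cancel₀ t.ne_zero (by rw [← this, Units.val_one, mul_one])

/-- The translates of `e₀` under the unipotent group span the natural module. -/
theorem eq_zero_of_U (hm : 1 ≤ m) (hF : Fintype.card F = 2 ^ (2 * m + 1)) (σ : F ≃+* F)
    {W : Type*} [AddCommGroup W] [Module F W] (L : (Fin 4 → F) →ₗ[F] W)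
    (h : ∀ a b, L (act σ (U hF a b) (Pi.single 0 1)) = 0) : L = 0 := by
  have h2 := CharTwo.two_eq_zero (R := F)
  have z := zero_pow (M₀ := F) (pow_ne_zero (m + 1) (two_ne_zero (α := ℕ)))
  obtain ⟨t, -, ht⟩ := exists_pow_ne hm hF
  have v1 : L ![1, 0, 0, 0] = 0 := by
    rw [← h 0 0]; congr 1; funext i; fin_cases i <;> simp [act_apply, mat_U, uMat, z]
  have v2 : L ![1, 1, 0, 1] = 0 := by
    rw [← h 1 0]; congr 1; funext i; fin_cases i <;> simp [act_apply, mat_U, uMat, z]
  have v3 : L ![1, 0, 1, 1] = 0 := by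
    rw [← h 0 1]; congr 1; funext i; fin_cases i <;> simp [act_apply, mat_U, uMat, z]
  have v4 : L ![1, 0, σ t, σ ((t : F) ^ 2 ^ (m + 1))] = 0 := by
    rw [← h 0 t]; congr 1; funext i; fin_cases i <;> simp [act_apply, mat_U, uMat, z]
  have e3 : L ![0, 0, 0, 1] = 0 := by
    have : (σ ((t : F) ^ 2 ^ (m + 1)) + σ t) • (![0, 0, 0, 1] : Fin 4 → F) =
        ![1, 0, σ t, σ ((t : F) ^ 2 ^ (m + 1))] + σ t • ![1, 0, 1, 1] + (1 + σ t) • ![1, 0, 0, 0] := by
      funext i; fin_cases i <;> simp <;> grind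
    have := congrArg L this
    rw [map_add, map_add, map_smul, map_smul, map_smul, v4, v3, v1, smul_zero, smul_zero, add_zero,
      add_zero] at this
    refine (smul_eq_zero.1 this).resolve_left fun e => ht (σ.injective ?_)
    exact CharTwo.add_eq_zero.1 e
  refine LinearMap.ext fun x => ?_
  have hx : x = (x 0 + x 1 + x 2) • (![1, 0, 0, 0] : Fin 4 → F) + x 1 • ![1, 1, 0, 1] + x 2 • ![1, 0, 1, 1] +
      (x 1 + x 2 + x 3) • ![0, 0, 0, 1] := by
    funext i; fin_cases i <;> simp <;> grind
  refine (congrArg L hx).trans ?_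
  rw [map_add, map_add, map_add, map_smul, map_smul, map_smul, map_smul, v1, v2, v3, e3]
  simp

/-- An equivariant pairing of twisted natural modules vanishes. -/
theorem bilin_natural (hm : 1 ≤ m) (hF : Fintype.card F = 2 ^ (2 * m + 1)) (s r l : F ≃+* F)
    (B : (Fin 4 → F) →ₗ[F] (Fin 4 → F) →ₗ[F] (Fin 4 → F))
    (hB : ∀ (g : SzG) x y, B (act s g x) (act r g y) = act l g (B x y)) : B = 0 := by
  have h2 := CharTwo.two_eq_zero (R := F)
  have z := zero_pow (M₀ := F) (pow_ne_zero (m + 1) (two_ne_zero (α := ℕ)))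
  obtain ⟨t₀, ht₀, ht₀e⟩ := exists_pow_ne hm hF
  set e0 : Fin 4 → F := Pi.single 0 1
  set e1 : Fin 4 → F := Pi.single 1 1
  set e2 : Fin 4 → F := Pi.single 2 1
  set e3 : Fin 4 → F := Pi.single 3 1
  have hTd : ∀ (σ : F ≃+* F) (t : Fˣ) (x : Fin 4 → F) (i : Fin 4),
      act σ (T hF t) x i = σ (NilCover.szDiag (2 ^ (m + 1)) (t : F) i) * x i := by
    intro σ t x i
    rw [act_apply, show mat (T hF t) = Matrix.diagonal (NilCover.szDiag (2 ^ (m + 1)) (t : F)) from T_val hF t]
    fin_cases i <;> simp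
  have hTs : ∀ (σ : F ≃+* F) (t : Fˣ) (i : Fin 4),
      act σ (T hF t) (Pi.single i 1) = σ (NilCover.szDiag (2 ^ (m + 1)) (t : F) i) • (Pi.single i 1 : Fin 4 → F) := by
    intro σ t i
    funext j
    rw [hTd]
    rcases eq_or_ne j i with rfl | h
    · simp
    · simp [h]
  have hw : ∀ (t : Fˣ) (i j k : Fin 4),
      s (NilCover.szDiag (2 ^ (m + 1)) (t : F) i) * r (NilCover.szDiag (2 ^ (m + 1)) (t : F) j) *
        B (Pi.single i 1) (Pi.single j 1) k =
      l (NilCover.szDiag (2 ^ (m + 1)) (t : F) k) * B (Pi.single i 1) (Pi.single j 1) k := by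
    intro t i j k
    rw [← hTd, ← hB, hTs, hTs]
    simp [mul_assoc]
    ring
  have hUe3 : ∀ (σ : F ≃+* F) a b, act σ (U hF a b) e3 = e3 := by
    intro σ a b; funext i; fin_cases i <;> simp [e3, act_apply, mat_U, uMat]
  have hJ3 : ∀ σ : F ≃+* F, act σ (J F m) e3 = e0 := by
    intro σ; funext i; fin_cases i <;> simp [e3, e0, act_apply, mat_J, PrimeGraph.J4]
  have hJ0 : ∀ σ : F ≃+* F, act σ (J F m) e0 = e3 := by
    intro σ; funext i; fin_cases i <;> simp [e3, e0, act_apply, mat_J, PrimeGraph.J4]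
  suffices key : B e3 e0 = 0 by
    have hL : B e3 = 0 := eq_zero_of_U hm hF r (B e3) fun a b => by
      have := hB (U hF a b) e3 e0
      rw [hUe3, key, map_zero] at this
      exact this
    refine eq_zero_of_U hm hF s B fun a b => LinearMap.ext fun y => ?_
    rw [show (Pi.single 0 1 : Fin 4 → F) = e0 from rfl, ← hJ3 s, ← act_mul, LinearMap.zero_apply,
      show y = act r (U hF a b * J F m) (act r (U hF a b * J F m)⁻¹ y) by rw [← act_mul, mul_inv_cancel, act_one],
      hB, hL, LinearMap.zero_apply, map_zero]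
  by_cases hsr : s = r
  · funext p
    have h := hw t₀ 3 0 p
    subst hsr
    rw [← map_mul, show NilCover.szDiag (2 ^ (m + 1)) (t₀ : F) 3 * NilCover.szDiag (2 ^ (m + 1)) (t₀ : F) 0 = 1 by
      simp [NilCover.szDiag], map_one, one_mul] at h
    by_contra hne
    have h1 : NilCover.szDiag (2 ^ (m + 1)) (t₀ : F) p = 1 := by
      refine l.injective ?_
      rw [map_one]
      exact (mul_right_cancel₀ hne ((one_mul _).trans h)).symm
    have hne0 := t₀.ne_zero
    fin_cases p <;> simp [NilCover.szDiag] at h1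
    · exact ht₀ (by rw [h1]; rfl)
    · exact ht₀e ((div_eq_one_iff_eq hne0).1 h1)
    · exact ht₀e ((div_eq_one_iff_eq (pow_ne_zero _ hne0)).1 h1).symm
    · exact ht₀ (by rw [h1]; rfl)
  -- `w33`
  set w33 := B e3 e3 with hw33
  have hfix33 : ∀ a b, act l (U hF a b) w33 = w33 := fun a b => by rw [hw33, ← hB, hUe3, hUe3]
  have f0 : ∀ w : Fin 4 → F, act l (U hF 1 0) w = w → w 0 = 0 ∧ w 1 = 0 ∧ w 2 = 0 := by
    intro w hw
    have a1 := congrFun hw 1; have a2 := congrFun hw 2; have a3 := congrFun hw 3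
    simp [act_apply, mat_U, uMat, z] at a1 a2 a3
    grind
  obtain ⟨w30, w31, w32⟩ := f0 w33 (hfix33 1 0)
  have hc : w33 3 = 0 := by
    by_contra hc
    refine hsr (RingEquiv.ext fun x => ?_)
    have hmul : ∀ x : F, s x * r x = l x := by
      intro x
      rcases eq_or_ne x 0 with rfl | hx
      · simp
      · have h := hw (Units.mk0 x hx)⁻¹ 3 3 3
        simp [NilCover.szDiag] at h
        exact h.resolve_right hc
    have h1 := hmul (1 + x)
    rw [map_add, map_add, map_add, map_one, map_one, map_one] at h1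
    exact CharTwo.add_eq_zero.1 (by linear_combination h1 - hmul x)
  have hw33' : w33 = 0 := by funext i; fin_cases i <;> assumption
  -- `B e3 e2`
  set w2 := B e3 e2 with hw2
  have hfix2 : ∀ a b, act l (U hF a b) w2 = w2 := fun a b => by
    rw [hw2, ← hB, hUe3, show act r (U hF a b) e2 = e2 + r a • e3 by
      funext i; fin_cases i <;> simp [e2, e3, act_apply, mat_U, uMat], map_add, map_smul, ← hw33, hw33',
      smul_zero, add_zero]
  obtain ⟨w20, w21, w22⟩ := f0 w2 (hfix2 1 0)
  -- `B e3 e1`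
  set w1 := B e3 e1 with hw1
  have h1a : ∀ a, act l (U hF a 0) w1 = w1 + r (a ^ 2 ^ (m + 1)) • w2 := fun a => by
    rw [hw1, ← hB, hUe3, show act r (U hF a 0) e1 =
      e1 + r (a ^ 2 ^ (m + 1)) • e2 + r (a * a ^ 2 ^ (m + 1)) • e3 by
      funext i; fin_cases i <;> simp [e1, e2, e3, act_apply, mat_U, uMat], map_add, map_add, map_smul, map_smul,
      ← hw33, hw33', smul_zero, add_zero]
  have w10 : w1 0 = 0 := by
    have := congrFun (h1a 1) 1
    simpa [act_apply, mat_U, uMat, w21] using this
  have w11 : w1 1 = 0 := by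
    have := congrFun (h1a 1) 2
    simpa [act_apply, mat_U, uMat, w22, w10] using this
  have h1c : ∀ a, l a * w1 2 = r (a ^ 2 ^ (m + 1)) * w2 3 := fun a => by
    have := congrFun (h1a a) 3
    simp [act_apply, mat_U, uMat, w10, w11] at this
    rw [map_pow]
    linear_combination this
  have hc2 : w2 3 = 0 := by
    by_contra hc2
    refine hsr (RingEquiv.ext fun x => ?_)
    rcases eq_or_ne x 0 with rfl | hx
    · simp
    · have h12 := h1c 1
      rw [map_one, one_mul, one_pow, map_one, one_mul] at h12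
      have hl : ∀ a, l a = r (a ^ 2 ^ (m + 1)) := fun a =>
        mul_right_cancel₀ hc2 (by rw [← h1c a, h12])
      have h := hw (Units.mk0 x hx) 3 2 3
      simp only [NilCover.szDiag, Units.val_mk0] at h
      simp at h
      replace h := h.resolve_right hc2
      rw [hl, map_pow] at h
      have hsx : s x ≠ 0 := by simpa using hx
      have hrx : r x ≠ 0 := by simpa using hx
      field_simp at h
      first | exact h | exact h.symm | linear_combination h | linear_combination -h
  have w12 : w1 2 = 0 := by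
    have := h1c 1
    rwa [map_one, one_mul, hc2, mul_zero] at this
  -- `B e3 e0`
  set w0 := B e3 e0 with hw0
  set β := w1 3 with hβ
  have h0a : ∀ a, act l (U hF a 0) w0 = w0 + r a • w1 := fun a => by
    rw [hw0, ← hB, hUe3, show act r (U hF a 0) e0 = e0 + r a • e1 + r (a ^ 2 * a ^ 2 ^ (m + 1)) • e3 by
      funext i; fin_cases i <;> simp [e0, e1, e3, act_apply, mat_U, uMat, z], map_add, map_add, map_smul, map_smul,
      ← hw33, hw33', smul_zero, add_zero]
  have w00 : w0 0 = 0 := by
    have := congrFun (h0a 1) 1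
    simpa [act_apply, mat_U, uMat, w11] using this
  have w01 : w0 1 = 0 := by
    have := congrFun (h0a 1) 2
    simpa [act_apply, mat_U, uMat, w12, w00] using this
  have h0c : ∀ a, l a * w0 2 = r a * β := fun a => by
    have := congrFun (h0a a) 3
    simp [act_apply, mat_U, uMat, w00, w01, z] at this
    linear_combination this
  have w02 : w0 2 = β := by simpa using h0c 1
  set y := w0 3 with hy
  have hw0' : w0 = ![0, 0, β, y] := by funext i; fin_cases i <;> simp [w00, w01, w02, hy]
  have hb03 : B e0 e3 = ![y, β, 0, 0] := by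
    refine (congrArg₂ (fun u v => B u v) (hJ3 s).symm (hJ0 r).symm).trans ?_
    rw [hB, ← hw0, hw0']
    funext i
    fin_cases i <;> simp [act_apply, mat_J, PrimeGraph.J4]
  set X := B e2 e3 with hX
  have hXb : ∀ b, s b * X 2 = l b * y ∧ s b * X 3 = l (b ^ 2 ^ (m + 1)) * y + l b * β := by
    intro b
    have h := hB (U hF 0 b) e0 e3
    rw [hUe3, show act s (U hF 0 b) e0 = e0 + s b • e2 + s (b ^ 2 ^ (m + 1)) • e3 by
      funext i; fin_cases i <;> simp [e0, e2, e3, act_apply, mat_U, uMat, z], map_add, map_add, map_smul, map_smul,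
      LinearMap.add_apply, LinearMap.add_apply, LinearMap.smul_apply, LinearMap.smul_apply, ← hw33, hw33',
      smul_zero, add_zero, ← hX, hb03] at h
    have a2 := congrFun h 2
    have a3 := congrFun h 3
    simp [act_apply, mat_U, uMat, z] at a2 a3
    constructor
    · linear_combination a2
    · rw [map_pow]; linear_combination a3
  have hX2 : X 2 = y := by simpa using (hXb 1).1
  have hX3 : X 3 = y + β := by simpa using (hXb 1).2
  have hy0 : y = 0 := by
    by_contra hy0
    have hsl : ∀ b, s b = l b := fun b => mul_right_cancel₀ hy0 (by rw [← (hXb b).1, hX2])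
    have h := hw t₀ 3 0 3
    simp [NilCover.szDiag, hsl] at h
    replace h := h.resolve_right (by simpa [hy, hw0, e3, e0] using hy0)
    exact ht₀ (congrArg Units.val h)
  have hβ0 : β = 0 := by
    by_contra hβ0
    refine hsr (RingEquiv.ext fun b => ?_)
    have h1 : l b = r b := mul_right_cancel₀ hβ0 (by rw [← h0c b, w02])
    have h2 := (hXb b).2
    rw [hX3, hy0, zero_add, mul_zero, zero_add] at h2
    rw [mul_right_cancel₀ hβ0 h2, h1]
  rw [hw0', hy0, hβ0]
  funext i
  fin_cases i <;> rfl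

end Natural

section Devissage

variable {F : Type*} [Field F] {G : Type*} [Monoid G] {V : Type*} [AddCommGroup V] [Module F V]

/-- The action on the quotient by an invariant submodule. -/
def quotRep (ρ : G →* Module.End F V) (S : Submodule F V) (hS : ∀ g, ∀ v ∈ S, ρ g v ∈ S) :
    G →* Module.End F (V ⧸ S) where
  toFun g := S.mapQ S (ρ g) (hS g)
  map_one' := Submodule.linearMap_qext _ (LinearMap.ext fun v => by simp)
  map_mul' g h := Submodule.linearMap_qext _ (LinearMap.ext fun v => by simp)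

theorem quotRep_mk (ρ : G →* Module.End F V) (S : Submodule F V) (hS : ∀ g, ∀ v ∈ S, ρ g v ∈ S) (g : G)
    (v : V) : quotRep ρ S hS g (Submodule.Quotient.mk v) = Submodule.Quotient.mk (ρ g v) := rfl

theorem NormZero.quotRep {ρ : G →* Module.End F V} (h : NormZero ρ) (S : Submodule F V)
    (hS : ∀ g, ∀ v ∈ S, ρ g v ∈ S) : NormZero (CNStructure.quotRep ρ S hS) :=
  h.of_surjective S.mkQ S.mkQ_surjective fun g v => (quotRep_mk ρ S hS g v).symm

end Devissage

universe u v w

theorem bilin_aux {F : Type} [Field F] [Fintype F] [CharP F 2] {m : ℕ} (hm : 1 ≤ m)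
    (hF : Fintype.card F = 2 ^ (2 * m + 1)) (n : ℕ) :
    ∀ {V : Type u} {W : Type v} {X : Type w} [AddCommGroup V] [Module F V] [FiniteDimensional F V]
      [AddCommGroup W] [Module F W] [FiniteDimensional F W] [AddCommGroup X] [Module F X] [FiniteDimensional F X]
      (ρV : ↥(Cfsg.Lie.Sz F (2 ^ (m + 1))) →* Module.End F V) (ρW : ↥(Cfsg.Lie.Sz F (2 ^ (m + 1))) →* Module.End F W)
      (ρX : ↥(Cfsg.Lie.Sz F (2 ^ (m + 1))) →* Module.End F X),
      Module.finrank F V + Module.finrank F W + Module.finrank F X = n →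
      NormZero ρV → NormZero ρW → NormZero ρX → ∀ (B : V →ₗ[F] W →ₗ[F] X),
      (∀ g v w, B (ρV g v) (ρW g w) = ρX g (B v w)) → B = 0 := by
  induction n using Nat.strong_induction_on with
  | _ n ih =>
  intro V W X _ _ _ _ _ _ _ _ _ ρV ρW ρX hn hV hW hX B hB
  rcases subsingleton_or_nontrivial V with hs | hV'
  · exact LinearMap.ext fun x => by rw [Subsingleton.elim x 0, map_zero, map_zero]
  rcases subsingleton_or_nontrivial W with hs | hW'
  · exact LinearMap.ext fun x => LinearMap.ext fun y => by rw [Subsingleton.elim y 0, map_zero, map_zero]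
  rcases subsingleton_or_nontrivial X with hs | hX'
  · exact LinearMap.ext fun x => LinearMap.ext fun y => Subsingleton.elim _ _
  obtain ⟨s, fV, hfV, hfVe⟩ := exists_natural hm hF ρV hV
  obtain ⟨r, fW, hfW, hfWe⟩ := exists_natural hm hF ρW hW
  obtain ⟨l, fX, hfX, hfXe⟩ := exists_natural hm hF ρX hX
  by_cases hVs : LinearMap.range fV ≠ ⊤
  · set S := LinearMap.range fV
    have hS : ∀ g, ∀ x ∈ S, ρV g x ∈ S := by rintro g _ ⟨x, rfl⟩; exact ⟨_, (hfVe g x).symm⟩
    have h1 := Submodule.finrank_lt hVs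
    have h2 := S.finrank_quotient_add_finrank
    have h3 : 0 < Module.finrank F S := by
      rw [LinearMap.finrank_range_of_inj hfV, Module.finrank_fin_fun]; omega
    have hres := ih _ (by omega) (subRep ρV S hS) ρW ρX rfl (hV.subRep S hS) hW hX
      (B ∘ₗ S.subtype) (fun g x y => hB g x y)
    have hker : S ≤ LinearMap.ker B := fun x hx => LinearMap.congr_fun hres ⟨x, hx⟩
    have hq := ih _ (by omega) (quotRep ρV S hS) ρW ρX rfl (hV.quotRep S hS) hW hX
      (S.liftQ B hker) (fun g x y => by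
        obtain ⟨x, rfl⟩ := S.mkQ_surjective x
        exact hB g x y)
    exact LinearMap.ext fun x => LinearMap.congr_fun hq (Submodule.Quotient.mk x)
  by_cases hWs : LinearMap.range fW ≠ ⊤
  · set S := LinearMap.range fW
    have hS : ∀ g, ∀ x ∈ S, ρW g x ∈ S := by rintro g _ ⟨x, rfl⟩; exact ⟨_, (hfWe g x).symm⟩
    have h1 := Submodule.finrank_lt hWs
    have h2 := S.finrank_quotient_add_finrank
    have h3 : 0 < Module.finrank F S := by
      rw [LinearMap.finrank_range_of_inj hfW, Module.finrank_fin_fun]; omega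
    have hres := ih _ (by omega) ρV (subRep ρW S hS) ρX rfl hV (hW.subRep S hS) hX
      (B.flip ∘ₗ S.subtype).flip (fun g x y => hB g x y)
    have hker : S ≤ LinearMap.ker B.flip := fun y hy =>
      LinearMap.ext fun x => LinearMap.congr_fun (LinearMap.congr_fun hres x) ⟨y, hy⟩
    have hq := ih _ (by omega) ρV (quotRep ρW S hS) ρX rfl hV (hW.quotRep S hS) hX
      (S.liftQ B.flip hker).flip (fun g x y => by
        obtain ⟨y, rfl⟩ := S.mkQ_surjective y
        exact hB g x y)
    exact LinearMap.ext fun x => LinearMap.ext fun y =>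
      LinearMap.congr_fun (LinearMap.congr_fun hq x) (Submodule.Quotient.mk y)
  by_cases hXs : LinearMap.range fX ≠ ⊤
  · set S := LinearMap.range fX
    have hS : ∀ g, ∀ x ∈ S, ρX g x ∈ S := by rintro g _ ⟨x, rfl⟩; exact ⟨_, (hfXe g x).symm⟩
    have h1 := Submodule.finrank_lt hXs
    have h2 := S.finrank_quotient_add_finrank
    have h3 : 0 < Module.finrank F S := by
      rw [LinearMap.finrank_range_of_inj hfX, Module.finrank_fin_fun]; omega
    have hq := ih _ (by omega) ρV ρW (quotRep ρX S hS) rfl hV hW (hX.quotRep S hS)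
      (B.compr₂ S.mkQ) (fun g x y => by
        show Submodule.Quotient.mk (B (ρV g x) (ρW g y)) = quotRep ρX S hS g (Submodule.Quotient.mk (B x y))
        rw [hB, quotRep_mk])
    have hmem : ∀ x y, B x y ∈ S := fun x y =>
      (Submodule.Quotient.mk_eq_zero S).1 (LinearMap.congr_fun (LinearMap.congr_fun hq x) y)
    let B' : V →ₗ[F] W →ₗ[F] S := LinearMap.mk₂ F (fun x y => ⟨B x y, hmem x y⟩)
      (fun _ _ _ => Subtype.ext (by simp)) (fun _ _ _ => Subtype.ext (by simp))
      (fun _ _ _ => Subtype.ext (by simp)) (fun _ _ _ => Subtype.ext (by simp))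
    have hres := ih _ (by omega) ρV ρW (subRep ρX S hS) rfl hV hW (hX.subRep S hS)
      B' (fun g x y => Subtype.ext (hB g x y))
    exact LinearMap.ext fun x => LinearMap.ext fun y =>
      congrArg Subtype.val (LinearMap.congr_fun (LinearMap.congr_fun hres x) y)
  rw [not_not, LinearMap.range_eq_top] at hVs hWs hXs
  let eX := LinearEquiv.ofBijective fX ⟨hfX, hXs⟩
  let B₀ : (Fin 4 → F) →ₗ[F] (Fin 4 → F) →ₗ[F] (Fin 4 → F) := (B.compl₁₂ fV fW).compr₂ eX.symm.toLinearMap
  have h0 : B₀ = 0 := bilin_natural hm hF s r l B₀ fun g x y => by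
    show eX.symm (B (fV (act s g x)) (fW (act r g y))) = act l g (eX.symm (B (fV x) (fW y)))
    rw [LinearEquiv.symm_apply_eq, show fV (act s g x) = ρV g (fV x) from (hfVe g x).symm,
      show fW (act r g y) = ρW g (fW y) from (hfWe g y).symm, hB]
    show _ = fX (act l g _)
    rw [show fX (act l g (eX.symm (B (fV x) (fW y)))) = ρX g (fX (eX.symm (B (fV x) (fW y)))) from
      (hfXe g _).symm]
    congr 1
    exact (eX.apply_symm_apply _).symm
  refine LinearMap.ext fun x => LinearMap.ext fun y => ?_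
  obtain ⟨x, rfl⟩ := hVs x
  obtain ⟨y, rfl⟩ := hWs y
  have := LinearMap.congr_fun (LinearMap.congr_fun h0 x) y
  exact eX.symm.map_eq_zero_iff.1 this

/-- Equivariant pairings of fixed-point-free representations vanish. -/
theorem bilin_eq_zero {F : Type} [Field F] [Fintype F] [CharP F 2] {m : ℕ} (hm : 1 ≤ m)
    (hF : Fintype.card F = 2 ^ (2 * m + 1)) {V : Type u} {W : Type v} {X : Type w}
    [AddCommGroup V] [Module F V] [FiniteDimensional F V] [AddCommGroup W] [Module F W] [FiniteDimensional F W]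
    [AddCommGroup X] [Module F X] [FiniteDimensional F X]
    (ρV : ↥(Cfsg.Lie.Sz F (2 ^ (m + 1))) →* Module.End F V) (ρW : ↥(Cfsg.Lie.Sz F (2 ^ (m + 1))) →* Module.End F W)
    (ρX : ↥(Cfsg.Lie.Sz F (2 ^ (m + 1))) →* Module.End F X)
    (hV : NormZero ρV) (hW : NormZero ρW) (hX : NormZero ρX) (B : V →ₗ[F] W →ₗ[F] X)
    (hB : ∀ g v w, B (ρV g v) (ρW g w) = ρX g (B v w)) : B = 0 :=
  bilin_aux hm hF _ ρV ρW ρX rfl hV hW hX B hB

end Cfsg.Agent.CNStructure
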