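import Cfsg.Agent.SzDeg.Group

/-!
# Fixed-point-free representations of Suzuki groups: definitions
-/

set_option autoImplicit false

namespace Cfsg.Agent.CNStructure

open Finset

/-- Every non-trivial element of odd order has norm zero. -/
def NormZero {X R : Type*} [Monoid X] [Semiring R] (ρ : X →* R) : Prop :=
  ∀ (x : X) (n : ℕ), Odd n → x ^ n = 1 → x ≠ 1 → ∑ j ∈ range n, ρ x ^ j = 0

variable {F : Type*} [Field F]

/-- The representation `ρ` contains the natural module twisted by `σ`. -/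
def HasNatural {V : Type*} [AddCommGroup V] [Module F V] (m : ℕ)
    (ρ : ↥(Cfsg.Lie.Sz F (2 ^ (m + 1))) →* Module.End F V) (σ : F ≃+* F) (f : (Fin 4 → F) →ₗ[F] V) : Prop :=
  Function.Injective f ∧
    ∀ (g : ↥(Cfsg.Lie.Sz F (2 ^ (m + 1)))) (x : Fin 4 → F),
      ρ g (f x) = f (((g.1 : GL (Fin 4) F).1.map σ).mulVec x)

end Cfsg.Agent.CNStructure
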