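import Cfsg.Agent.CNStructure.SzNatural

/-!
# No fixed-point-free module of exponent four for a Suzuki group

A fixed-point-free representation over `GR(4, q)` would have the natural module in the image of
multiplication by two; the weight vector then lifts, and an eigen-combination of the central involutions
of the unipotent radical kills the lift but not the weight vector.
-/

set_option autoImplicit false

namespace Cfsg.Agent.CNStructure

open Finset Cfsg.Agent.SzDeg
open scoped TensorProduct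

universe u

namespace SzLift

variable {F : Type} [Field F] [Fintype F] [CharP F 2] {m : ℕ}

/-! ### The absolute trace -/

/-- The trace to the prime field. -/
def tr (m : ℕ) (x : F) : F := ∑ i ∈ range (2 * m + 1), x ^ 2 ^ i

omit [Fintype F] in
theorem tr_add (x y : F) : tr m (x + y) = tr m x + tr m y := by
  simp only [tr, add_pow_char_pow, sum_add_distrib]

omit [Fintype F] in
theorem tr_one : tr m (1 : F) = 1 := by
  simp [tr, CharTwo.two_eq_zero]

omit [Fintype F] [CharP F 2] in
theorem tr_zero : tr m (0 : F) = 0 := by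
  simp [tr]

theorem tr_cases (hF : Fintype.card F = 2 ^ (2 * m + 1)) (x : F) : tr m x = 0 ∨ tr m x = 1 := by
  have h1 : tr m x ^ 2 = ∑ i ∈ range (2 * m + 1), x ^ 2 ^ (i + 1) := by
    rw [tr, sum_pow_char]
    exact sum_congr rfl fun i _ => by rw [← pow_mul, ← pow_succ]
  have e1 := sum_range_succ' (fun i => x ^ 2 ^ i) (2 * m + 1)
  rw [sum_range_succ, ← hF, FiniteField.pow_card, pow_zero, pow_one] at e1
  have h : tr m x ^ 2 = tr m x := by
    rw [h1]; exact (add_right_cancel e1).symm
  rw [pow_two] at h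
  exact IsIdempotentElem.iff_eq_zero_or_one.1 h

omit [Field F] [CharP F 2] in
theorem four_le (hm : 1 ≤ m) (hF : Fintype.card F = 2 ^ (2 * m + 1)) : 4 ≤ Fintype.card F := by
  rw [hF]
  calc 4 = 2 ^ 2 := rfl
    _ ≤ _ := Nat.pow_le_pow_right two_pos (by omega)

theorem sum_inv_zero (hm : 1 ≤ m) (hF : Fintype.card F = 2 ^ (2 * m + 1)) : ∑ x : F, x⁻¹ = 0 := by
  have := four_le hm hF
  calc ∑ x : F, x⁻¹ = ∑ x : F, x ^ 1 := Fintype.sum_equiv (Equiv.inv F) _ _ fun x => by simp
    _ = 0 := FiniteField.sum_pow_lt_card_sub_one F 1 (by omega)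

theorem sum_mul_inv (hF : Fintype.card F = 2 ^ (2 * m + 1)) : ∑ x : F, x * x⁻¹ = 1 := by
  classical
  have h : ∀ x : F, x * x⁻¹ = 1 - if x = 0 then 1 else 0 := fun x => by
    split_ifs with hx <;> simp [hx]
  rw [sum_congr rfl fun x _ => h x, sum_sub_distrib, sum_const, card_univ, hF, sum_ite_eq']
  simp [CharTwo.two_eq_zero, CharTwo.neg_eq]

theorem sum_tr_inv (hm : 1 ≤ m) (hF : Fintype.card F = 2 ^ (2 * m + 1)) :
    ∑ x : F, tr m x * x⁻¹ = 1 := by
  simp only [tr, sum_mul]
  rw [sum_comm, sum_eq_single 0]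
  · simpa using sum_mul_inv hF
  · intro i hi h0
    have hlt : 2 ^ i ≤ 2 ^ (2 * m) := Nat.pow_le_pow_right two_pos (by have := mem_range.1 hi; omega)
    have h2 : 2 ≤ 2 ^ i := Nat.le_self_pow h0 2
    have h4 := four_le hm hF
    have hc : Fintype.card F = 2 * 2 ^ (2 * m) := by rw [hF, pow_succ, mul_comm]
    calc ∑ x : F, x ^ 2 ^ i * x⁻¹ = ∑ x : F, x ^ (2 ^ i - 1) := sum_congr rfl fun x _ => by
          obtain ⟨k, hk⟩ : ∃ k, 2 ^ i = k + 1 := ⟨2 ^ i - 1, by omega⟩
          rw [hk, Nat.add_sub_cancel]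
          by_cases hx : x = 0
          · subst hx; simp [zero_pow (show k ≠ 0 by omega)]
          · rw [pow_succ, mul_inv_cancel_right₀ hx]
      _ = 0 := FiniteField.sum_pow_lt_card_sub_one F _ (by omega)
  · simp

theorem sum_tr_w (hm : 1 ≤ m) (hF : Fintype.card F = 2 ^ (2 * m + 1)) :
    ∑ x : F, tr m x * (x * (1 + x))⁻¹ = 1 := by
  classical
  have h2 : (2 : F) = 0 := CharTwo.two_eq_zero
  have h : ∀ x : F, tr m x * (x * (1 + x))⁻¹ =
      tr m x * x⁻¹ + tr m x * (1 + x)⁻¹ + if x = 1 then 1 else 0 := by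
    intro x
    split_ifs with h1
    · subst h1; simp [tr_one, CharTwo.add_self_eq_zero]
    · by_cases h0 : x = 0
      · subst h0; simp [tr_zero]
      · have : (1 + x) ≠ 0 := fun h => h1 (CharTwo.add_eq_zero.1 h).symm
        field_simp
        grind
  have hs : ∑ x : F, tr m x * (1 + x)⁻¹ = 1 := by
    calc ∑ x : F, tr m x * (1 + x)⁻¹ = ∑ y : F, tr m (1 + y) * y⁻¹ :=
          Fintype.sum_equiv (Equiv.addLeft (1 : F)) _ _ fun x => by
            simp [← add_assoc, CharTwo.add_self_eq_zero]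
      _ = 1 := by
          simp only [tr_add, tr_one, add_mul, one_mul]
          rw [sum_add_distrib, sum_inv_zero hm hF, sum_tr_inv hm hF, zero_add]
  rw [sum_congr rfl fun x _ => h x, sum_add_distrib, sum_add_distrib, hs, sum_tr_inv hm hF, sum_ite_eq']
  simp [CharTwo.add_self_eq_zero]

/-! ### Multiplicative representatives in a ring over the field with kernel twice the ring -/

section Lift

variable {R : Type} [CommRing R] (π : R →+* F)

/-- The multiplicative representative. -/
noncomputable def tau (m : ℕ) (hπ : Function.Surjective π) (x : F) : R :=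
  Function.surjInv hπ (x ^ 2 ^ (2 * m)) ^ 2

variable (hπ : Function.Surjective π) (hker : ∀ r, π r = 0 → ∃ t, r = 2 * t) (h4 : (4 : R) = 0)
variable (hF : Fintype.card F = 2 ^ (2 * m + 1))

include hker h4 in
omit [Fintype F] [CharP F 2] in
theorem sq_eq {r r' : R} (h : π r = π r') : r ^ 2 = r' ^ 2 := by
  obtain ⟨t, ht⟩ := hker (r - r') (by rw [map_sub, h, sub_self])
  linear_combination (r + r') * ht + 2 * t * ht + (t * r' + t * t) * h4

include hker h4 hF in
omit [CharP F 2] in
theorem tau_sq (r : R) : tau π m hπ (π r ^ 2) = r ^ 2 := by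
  refine sq_eq π hker h4 ?_
  rw [Function.surjInv_eq hπ, ← pow_mul, ← pow_succ', ← hF, FiniteField.pow_card]

include hker h4 hF in
theorem tau_mul (x y : F) : tau π m hπ (x * y) = tau π m hπ x * tau π m hπ y := by
  obtain ⟨a, rfl⟩ := Finite.surjective_of_injective (fun a b h => CharTwo.sq_inj.1 h : Function.Injective fun x : F => x ^ 2) x
  obtain ⟨b, rfl⟩ := Finite.surjective_of_injective (fun a b h => CharTwo.sq_inj.1 h : Function.Injective fun x : F => x ^ 2) y
  obtain ⟨r, rfl⟩ := hπ a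
  obtain ⟨s, rfl⟩ := hπ b
  simp only
  rw [← mul_pow, ← map_mul, tau_sq π hπ hker h4 hF, tau_sq π hπ hker h4 hF, tau_sq π hπ hker h4 hF, mul_pow]

include hker h4 hF in
omit [CharP F 2] in
theorem tau_zero : tau π m hπ 0 = 0 := by
  simpa using tau_sq π hπ hker h4 hF 0

include hker h4 hF in
omit [CharP F 2] in
theorem tau_one : tau π m hπ 1 = 1 := by
  simpa using tau_sq π hπ hker h4 hF 1

include hF in
omit [CharP F 2] in
theorem pi_tau (x : F) : π (tau π m hπ x) = x := by
  rw [tau, map_pow, Function.surjInv_eq hπ, ← pow_mul, ← pow_succ, ← hF, FiniteField.pow_card]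

include hπ hker h4 hF in
omit [CharP F 2] in
theorem isUnit_of_pi {r : R} (h : π r ≠ 0) : IsUnit r := by
  obtain ⟨t, ht⟩ := hker (r * tau π m hπ (π r)⁻¹ - 1)
    (by rw [map_sub, map_mul, pi_tau π hπ hF, mul_inv_cancel₀ h, map_one, sub_self])
  refine IsUnit.of_mul_eq_one (tau π m hπ (π r)⁻¹ * (1 + 2 * t)) ?_
  linear_combination (1 + 2 * t) * ht + (t + t * t) * h4

include hker h4 hF in
theorem sum_tau (hm : 1 ≤ m) : ∑ x : F, tau π m hπ x = 0 := by
  obtain ⟨t, ht⟩ := exists_unit_ne_one hm hF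
  have h : tau π m hπ t * ∑ x : F, tau π m hπ x = ∑ x : F, tau π m hπ x := by
    rw [mul_sum]
    exact Fintype.sum_equiv (Equiv.mulLeft₀ (t : F) t.ne_zero) _ _ fun x => by
      simp [tau_mul π hπ hker h4 hF]
  have hu : IsUnit (tau π m hπ t - 1) := isUnit_of_pi π hπ hker h4 hF <| by
    rw [map_sub, map_one, pi_tau π hπ hF, sub_ne_zero]
    exact fun e => ht (Units.ext e)
  exact hu.mul_right_eq_zero.1 (by rw [sub_mul, one_mul, h, sub_self])

include hF in
/-- The key sum is twice a unit congruent to one. -/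
theorem exists_half (hm : 1 ≤ m) (g : F →+* F) :
    ∃ k : R, π k = 1 ∧ ∑ x : F, tau π m hπ (g (x * (1 + x)))⁻¹ = 2 * k := by
  classical
  set w : F → R := fun x => tau π m hπ (g (x * (1 + x)))⁻¹ with hw
  have hsh : ∀ x, w (1 + x) = w x := fun x => by
    simp only [hw, ← add_assoc, CharTwo.add_self_eq_zero, zero_add, mul_comm (1 + x) x]
  have hflip : ∑ x with tr m x ≠ 1, w x = ∑ x with tr m x = 1, w x := by
    refine sum_equiv (Equiv.addLeft (1 : F)) (fun x => ?_) fun x _ => (hsh x).symm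
    rcases tr_cases hF x with h | h <;> simp [tr_add, tr_one, h, CharTwo.add_self_eq_zero]
  refine ⟨∑ x with tr m x = 1, w x, ?_, ?_⟩
  · rw [map_sum, sum_filter]
    calc ∑ x : F, (if tr m x = 1 then π (w x) else 0) = ∑ x : F, g (tr m x * (x * (1 + x))⁻¹) :=
          sum_congr rfl fun x _ => by
            rcases tr_cases hF x with h | h <;> simp [h, hw, pi_tau π hπ hF]
      _ = 1 := by rw [← map_sum, sum_tr_w hm hF, map_one]
  · rw [← sum_filter_add_sum_filter_not univ (fun x => tr m x = 1) w, hflip, two_mul]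

variable (hm : 1 ≤ m) {M : Type u} [AddCommGroup M] [Module R M]
  (ρ : ↥(Cfsg.Lie.Sz F (2 ^ (m + 1))) →* Module.End R M) (hρ : NormZero ρ)

include hπ hker h4 hF hm hρ in
/-- The heart of the matter, over the big ring. -/
theorem two_smul_eq_zero [Finite M]
    (hnat : ∀ (V : Type u) [AddCommGroup V] [Module F V] [FiniteDimensional F V] [Nontrivial V]
      (ρV : ↥(Cfsg.Lie.Sz F (2 ^ (m + 1))) →* Module.End F V), NormZero ρV →
        ∃ σ f, HasNatural m ρV σ f) :
    ∀ x : M, (2 : R) • x = 0 := by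
  classical
  by_contra! hx
  obtain ⟨x₀, hx₀⟩ := hx
  set τ : F → R := tau π m hπ with hτ
  have τmul : ∀ a b, τ (a * b) = τ a * τ b := tau_mul π hπ hker h4 hF
  have τone : τ 1 = 1 := tau_one π hπ hker h4 hF
  have τzero : τ 0 = 0 := tau_zero π hπ hker h4 hF
  have πτ : ∀ a, π (τ a) = a := pi_tau π hπ hF
  set W : Submodule R M := LinearMap.range ((2 : R) • (LinearMap.id : M →ₗ[R] M)) with hW
  have w2 : ∀ w ∈ W, (2 : R) • w = 0 := by
    rintro _ ⟨x, rfl⟩
    rw [LinearMap.smul_apply, LinearMap.id_apply, smul_smul,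
      show (2 : R) * 2 = 4 by norm_num, h4, zero_smul]
  have congrW : ∀ {r r' : R} {w : M}, w ∈ W → π r = π r' → r • w = r' • w := by
    intro r r' w hw e
    obtain ⟨t, ht⟩ := hker (r - r') (by rw [map_sub, e, sub_self])
    rw [← sub_eq_zero, ← sub_smul, ht, mul_comm, mul_smul, w2 w hw, smul_zero]
  letI modW : Module F W :=
    { smul := fun c w => τ c • w
      one_smul := fun w => by show τ 1 • w = w; rw [τone, one_smul]
      mul_smul := fun a b w => by show τ (a * b) • w = τ a • τ b • w; rw [τmul, mul_smul]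
      smul_zero := fun a => smul_zero (τ a)
      smul_add := fun a => smul_add (τ a)
      zero_smul := fun w => by show τ 0 • w = 0; rw [τzero, zero_smul]
      add_smul := fun a b w => by
        show τ (a + b) • w = τ a • w + τ b • w
        rw [← add_smul]
        exact Subtype.ext (congrW w.2 (by rw [map_add, πτ, πτ, πτ])) }
  have smulW : ∀ (c : F) (w : W), ((c • w : W) : M) = τ c • (w : M) := fun c w => rfl
  have hinv : ∀ g, ∀ w ∈ W, ρ g w ∈ W := by
    rintro g _ ⟨x, rfl⟩
    exact ⟨ρ g x, by simp⟩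
  let ρW : ↥(Cfsg.Lie.Sz F (2 ^ (m + 1))) →* Module.End F W :=
    { toFun := fun g =>
        { toFun := fun w => ⟨ρ g w, hinv g w w.2⟩
          map_add' := fun v w => Subtype.ext (map_add (ρ g) (v : M) w)
          map_smul' := fun c w => Subtype.ext (map_smul (ρ g) (τ c) (w : M)) }
      map_one' := LinearMap.ext fun w => Subtype.ext (by simp)
      map_mul' := fun g h => LinearMap.ext fun w => Subtype.ext (by simp) }
  have hρW : NormZero ρW := fun g n hn hg hg1 => LinearMap.ext fun w => Subtype.ext <| by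
    have := LinearMap.congr_fun (hρ g n hn hg hg1) (w : M)
    simp only [← map_pow, LinearMap.sum_apply, LinearMap.zero_apply] at this ⊢
    rw [AddSubmonoidClass.coe_finsetSum]
    exact this
  have : Nontrivial W := ⟨⟨⟨_, x₀, rfl⟩, 0, fun e => hx₀ (congrArg Subtype.val e)⟩⟩
  obtain ⟨σ, f, hf, hnatf⟩ := hnat W ρW hρW
  set e₀ : Fin 4 → F := Pi.single 0 1 with he₀
  set y : M := (f e₀ : M) with hy
  obtain ⟨x, hx⟩ := (f e₀).2
  have hx2 : (2 : R) • x = y := hx
  have hy2 : (2 : R) • y = 0 := w2 _ (f e₀).2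
  have hTy : ∀ s : Fˣ, ρ (T hF s) y = τ (σ s) • y := by
    intro s
    have h := congrArg Subtype.val (hnatf (T hF s) e₀)
    have hv : (((T hF s).1 : GL (Fin 4) F).1.map σ).mulVec e₀ = σ s • e₀ := by
      rw [T_val]
      ext i; fin_cases i <;> simp [he₀, Matrix.mulVec, dotProduct, Fin.sum_univ_four, NilCover.szDiag]
    rw [hv, map_smul] at h
    exact h
  set x' : M := -∑ t : Fˣ, τ (σ (t⁻¹ : Fˣ)) • ρ (T hF t) x with hx'
  have hTx' : ∀ s : Fˣ, ρ (T hF s) x' = τ (σ s) • x' := by
    intro s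
    rw [hx', map_neg, smul_neg, neg_inj, map_sum, smul_sum]
    refine Fintype.sum_equiv (Equiv.mulLeft s) _ _ fun t => ?_
    rw [map_smul, smul_smul, ← τmul, ← Module.End.mul_apply, ← map_mul, T_mul, ← map_mul σ,
      Equiv.coe_mulLeft, ← Units.val_mul, mul_inv_rev, mul_left_comm, mul_inv_cancel, mul_one]
  have hodd : ((Fintype.card Fˣ : ℕ) : R) = -1 := by
    obtain ⟨k, hk⟩ : 4 ∣ Fintype.card F := hF ▸ ⟨2 ^ (2 * m - 1), by
      rw [show (4 : ℕ) = 2 ^ 2 from rfl, ← pow_add]; congr 1; omega⟩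
    have h1 : Fintype.card Fˣ + 1 = 4 * k := by
      rw [Fintype.card_units, Nat.sub_add_cancel Fintype.card_pos, hk]
    have := congrArg (Nat.cast (R := R)) h1
    push_cast at this
    linear_combination this + (k : R) * h4
  have hx'2 : (2 : R) • x' = y := by
    have hsum : ∀ t : Fˣ, (2 : R) • τ (σ (t⁻¹ : Fˣ)) • ρ (T hF t) x = y := fun t => by
      rw [smul_comm, ← map_smul, hx2, hTy, smul_smul, ← τmul, ← map_mul, Units.inv_mul, map_one,
        τone, one_smul]
    rw [hx', smul_neg, smul_sum, sum_congr rfl fun t _ => hsum t, sum_const, card_univ,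
      ← Nat.cast_smul_eq_nsmul R, hodd, neg_smul, one_smul, neg_neg]
  have hfix : ∀ v : M, (∀ s : Fˣ, ρ (T hF s) v = v) → v = 0 := by
    intro v hv
    obtain ⟨s, hs⟩ := exists_unit_ne_one hm hF
    let TH : Fˣ →* ↥(Cfsg.Lie.Sz F (2 ^ (m + 1))) :=
      { toFun := T hF, map_one' := T_one hF, map_mul' := fun a b => (T_mul hF a b).symm }
    have hne : T hF s ≠ 1 := fun e => hs (Units.ext (by
      simpa [NilCover.szDiag, T_val] using
        congrArg (fun g : ↥(Cfsg.Lie.Sz F (2 ^ (m + 1))) => (g.1 : GL (Fin 4) F).1 0 0) e))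
    have hoddn : Odd (Fintype.card Fˣ) := by
      rw [Fintype.card_units, hF]
      exact Nat.Even.sub_odd (Nat.one_le_two_pow) (Nat.even_pow.2 ⟨even_two, by omega⟩) odd_one
    have := LinearMap.congr_fun (hρ (T hF s) _ hoddn
      (show TH s ^ Fintype.card Fˣ = 1 by rw [← map_pow, pow_card_eq_one, map_one]) hne) v
    rw [LinearMap.sum_apply, sum_congr rfl (g := fun _ => v) fun j _ => by
        rw [← map_pow, show T hF s ^ j = T hF (s ^ j) from (map_pow TH s j).symm, hv],
      sum_const, card_range, ← Nat.cast_smul_eq_nsmul R, hodd, neg_smul, one_smul] at this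
    simpa using this
  set g : F →+* F := (iterateFrobenius F 2 m).comp (σ : F →+* F) with hg
  have hgθ : ∀ s : F, g (s ^ 2 ^ (m + 1)) = σ s := by
    intro s
    rw [hg, RingHom.comp_apply, iterateFrobenius_def, RingEquiv.coe_toRingHom, map_pow, ← pow_mul,
      ← pow_add, show m + 1 + m = 2 * m + 1 by ring, ← hF, FiniteField.pow_card]
  have hgg : ∀ c : F, g (c * c) = σ c ^ 2 ^ (m + 1) := by
    intro c
    rw [hg, RingHom.comp_apply, iterateFrobenius_def, RingEquiv.coe_toRingHom, map_mul, ← pow_two,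
      ← pow_mul, ← pow_succ']
  set φ : F → F := fun a => (g a)⁻¹ with hφ
  have φmul : ∀ a b, φ (a * b) = φ a * φ b := fun a b => by simp [hφ, mul_comm]
  let X : M →ₗ[R] M := ∑ a : F, τ (φ a) • ρ (U hF 0 a)
  have hX : ∀ v, X v = ∑ a : F, τ (φ a) • ρ (U hF 0 a) v := fun v => by
    simp [X, LinearMap.sum_apply]
  have hXx' : X x' = 0 := by
    refine hfix _ fun s => ?_
    rw [hX, map_sum]
    symm
    refine Fintype.sum_equiv (Equiv.mulRight₀ ((s : F) ^ 2 ^ (m + 1)) (pow_ne_zero _ s.ne_zero)) _ _ fun a => ?_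
    have hs : (s : F) ^ 2 ^ (m + 1) ≠ 0 := pow_ne_zero _ s.ne_zero
    rw [Equiv.mulRight₀_apply, map_smul, ← Module.End.mul_apply, ← map_mul, T_conj, mul_zero,
      mul_div_cancel_right₀ _ hs, map_mul, Module.End.mul_apply, hTx', map_smul, smul_smul, ← τmul]
    congr 2
    simp only [hφ, map_mul, mul_inv_rev, hgθ]
    field_simp
  obtain ⟨k, hk1, hk⟩ := exists_half π hπ hF hm g
  have hφbij : Function.Bijective fun a : F => φ (a * a) := by
    rw [← Finite.injective_iff_bijective]
    intro a b h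
    simp only [hφ, inv_inj] at h
    have h' := g.injective h
    rw [← pow_two, ← pow_two] at h'
    exact CharTwo.sq_inj.1 h'
  have hcoef : ∀ c : F, ∑ a : F, τ (φ a) * τ (φ (a + c)) = τ (φ (c * c)) * (2 * k) := by
    intro c
    by_cases hc : c = 0
    · subst hc
      simp only [add_zero, ← τmul, ← φmul, mul_zero]
      rw [show φ 0 = 0 by simp [hφ], τzero, zero_mul, ← sum_tau π hπ hker h4 hF hm]
      exact Fintype.sum_bijective _ hφbij _ _ fun a => rfl
    · rw [← hk, mul_sum]
      refine Fintype.sum_equiv (Equiv.mulLeft₀ c hc).symm _ _ fun a => ?_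
      show _ = τ (φ (c * c)) * τ (φ _)
      rw [← τmul, ← τmul, ← φmul, ← φmul]
      congr 2
      simp only [Equiv.mulLeft₀_symm_apply]
      field_simp
      ring
  have hXX : (2 : R) • k • ∑ c : F, τ (φ (c * c)) • ρ (U hF 0 c) x' = 0 := by
    have h0 : X (X x') = 0 := by rw [hXx', map_zero]
    rw [← h0, hX, hX]
    simp only [map_sum, map_smul, smul_sum, smul_smul, ← Module.End.mul_apply, ← map_mul, U_mul]
    symm
    calc ∑ a : F, ∑ b : F, (τ (φ a) * τ (φ b)) • ρ (U hF (0 + 0) (a + b + 0 ^ 2 ^ (m + 1) * 0)) x'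
        = ∑ a : F, ∑ c : F, (τ (φ a) * τ (φ (a + c))) • ρ (U hF 0 c) x' := by
          refine sum_congr rfl fun a _ => Fintype.sum_equiv (Equiv.addLeft a) _ _ fun b => ?_
          simp [← add_assoc, CharTwo.add_self_eq_zero]
      _ = _ := by
          rw [sum_comm]
          refine sum_congr rfl fun c _ => ?_
          rw [← sum_smul, hcoef]
          congr 1
          ring
  set v : Fin 4 → F → F := ![fun _ => 1, fun _ => 0, fun c => σ c, fun c => σ c ^ 2 ^ (m + 1)] with hv
  have hzy : ∀ c : F, ρ (U hF 0 c) y = (f (fun i => v i c) : M) := by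
    intro c
    have h := congrArg Subtype.val (hnatf (U hF 0 c) e₀)
    have hc : (((U hF 0 c).1 : GL (Fin 4) F).1.map σ).mulVec e₀ = fun i => v i c := by
      show (Matrix.map (uMat m 0 c) σ).mulVec e₀ = _
      ext i; fin_cases i <;> simp [he₀, hv, Matrix.mulVec, dotProduct, Fin.sum_univ_four, uMat]
    rw [hc] at h
    exact h
  have hkey : f (∑ c : F, φ (c * c) • fun i => v i c) = 0 := by
    refine Subtype.ext ?_
    rw [map_sum, AddSubmonoidClass.coe_finsetSum, ZeroMemClass.coe_zero]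
    simp only [map_smul, smulW, ← hzy]
    have hk' : ∀ w ∈ W, k • w = w := fun w hw => by
      rw [congrW hw (r' := 1) (by rw [hk1, map_one]), one_smul]
    rw [← hk' _ (W.sum_mem fun c _ => W.smul_mem _ (hinv _ _ (f e₀).2)), ← hXX, smul_comm (2 : R) k, smul_sum]
    simp only [smul_sum, smul_comm (2 : R) (τ _), ← map_smul, hx'2]
    rfl
  have h3 := congrFun ((map_eq_zero_iff f hf).1 hkey) 3
  rw [Finset.sum_apply] at h3
  have hone : ∑ c : F, (φ (c * c) • fun i => v i c) 3 = ∑ c : F, c * c⁻¹ := sum_congr rfl fun c _ => by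
    simp only [Pi.smul_apply, smul_eq_mul, hφ, hgg, hv]
    by_cases hc : c = 0
    · subst hc; simp
    · simp [hc]
  rw [hone, sum_mul_inv hF] at h3
  exact one_ne_zero h3

end Lift

/-! ### The ring -/

/-- A finite ring free over `ZMod 4` with residue field `F`. -/
theorem exists_ring (F : Type) [Field F] [Fintype F] [CharP F 2] :
    ∃ (R : Type) (_ : CommRing R) (_ : Algebra (ZMod 4) R) (_ : Finite R) (π : R →+* F)
      (φ : R →ₗ[ZMod 4] ZMod 4),
      Function.Surjective π ∧ (∀ r, π r = 0 → ∃ t, r = 2 * t) ∧ φ 1 = 1 := by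
  letI := ZMod.algebra F 2
  obtain ⟨γ, hγ⟩ := IsCyclic.exists_generator (α := Fˣ)
  let c : ZMod 4 →+* ZMod 2 := ZMod.castHom (by norm_num) (ZMod 2)
  have hc : Function.Surjective c := ZMod.castHom_surjective _
  have hint : IsIntegral (ZMod 2) (γ : F) := IsIntegral.of_finite _ _
  obtain ⟨h, hmap, -, hmon⟩ := Polynomial.lifts_and_degree_eq_and_monic (f := c)
    (p := minpoly (ZMod 2) (γ : F))
    (by rw [Polynomial.lifts_iff_coeff_lifts]; exact fun k => hc _) (minpoly.monic hint)
  have hdeg : h.natDegree = (minpoly (ZMod 2) (γ : F)).natDegree := by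
    rw [← hmap, hmon.natDegree_map]
  let π : AdjoinRoot h →+* F := AdjoinRoot.lift ((algebraMap (ZMod 2) F).comp c) (γ : F) (by
    rw [← Polynomial.eval₂_map, hmap]; exact minpoly.aeval _ _)
  let B := AdjoinRoot.powerBasis' hmon
  have hBd : B.dim = h.natDegree := rfl
  have : Module.Finite (ZMod 4) (AdjoinRoot h) := Module.Finite.of_basis B.basis
  refine ⟨AdjoinRoot h, inferInstance, inferInstance, Module.finite_of_finite (ZMod 4), π,
    B.basis.coord ⟨0, by rw [hBd, hdeg]; exact minpoly.natDegree_pos hint⟩, ?_, ?_, ?_⟩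
  · intro x
    rcases eq_or_ne x 0 with rfl | hx
    · exact ⟨0, map_zero π⟩
    · obtain ⟨k, hk⟩ := mem_powers_iff_mem_zpowers.2 (hγ (Units.mk0 x hx))
      refine ⟨AdjoinRoot.root h ^ k, ?_⟩
      rw [map_pow, AdjoinRoot.lift_root]
      simpa using congrArg Units.val hk
  · intro r hr
    rw [← B.basis.sum_repr r, map_sum] at hr
    have hterm : ∀ i, π (B.basis.repr r i • B.basis i) = c (B.basis.repr r i) • (γ : F) ^ (i : ℕ) := by
      intro i
      rw [Algebra.smul_def, map_mul, B.basis_eq_pow, map_pow, AdjoinRoot.algebraMap_eq,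
        Algebra.smul_def]
      simp [π, B]
    rw [sum_congr rfl fun i _ => hterm i] at hr
    have hli := (linearIndependent_pow (K := ZMod 2) (γ : F)).comp (Fin.cast (hBd.trans hdeg))
      (Fin.cast_injective _)
    have hz := Fintype.linearIndependent_iff.1 hli (fun i => c (B.basis.repr r i)) hr
    have hd : ∀ a : ZMod 4, c a = 0 → ∃ e, a = 2 * e := by decide
    choose e he using fun i => hd _ (hz i)
    refine ⟨∑ i, e i • B.basis i, ?_⟩
    conv_lhs => rw [← B.basis.sum_repr r]
    rw [mul_sum]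
    exact sum_congr rfl fun i _ => by
      rw [he i, Algebra.smul_def, Algebra.smul_def, map_mul, map_ofNat, mul_assoc]
  · rw [Module.Basis.coord_apply,
      show (1 : AdjoinRoot h) = B.basis ⟨0, by rw [hBd, hdeg]; exact minpoly.natDegree_pos hint⟩ by
        rw [B.basis_eq_pow, pow_zero],
      Module.Basis.repr_self, Finsupp.single_eq_same]

end SzLift

open SzLift in
/-- A fixed-point-free module of exponent dividing four of a Suzuki group is elementary abelian, granted
the natural module in each fixed-point-free representation over the field. -/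
theorem sz_no_exponent_four' {F : Type} [Field F] [Fintype F] [CharP F 2] {m : ℕ} (hm : 1 ≤ m)
    (hF : Fintype.card F = 2 ^ (2 * m + 1)) {M : Type u} [AddCommGroup M] [Finite M]
    (ρ : ↥(Cfsg.Lie.Sz F (2 ^ (m + 1))) →* AddMonoid.End M) (hρ : NormZero ρ)
    (hnat : ∀ (V : Type u) [AddCommGroup V] [Module F V] [FiniteDimensional F V] [Nontrivial V]
      (ρV : ↥(Cfsg.Lie.Sz F (2 ^ (m + 1))) →* Module.End F V), NormZero ρV →
        ∃ σ f, HasNatural m ρV σ f)
    (h4 : ∀ x : M, 4 • x = 0) : ∀ x : M, 2 • x = 0 := by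
  letI : Module (ZMod 4) M := AddCommGroup.zmodModule h4
  obtain ⟨R, _, _, _, π, φ, hπ, hker, hφ⟩ := exists_ring F
  have h4R : (4 : R) = 0 := by
    rw [← map_ofNat (algebraMap (ZMod 4) R) 4, show (4 : ZMod 4) = 0 by decide, map_zero]
  let ρ4 : ↥(Cfsg.Lie.Sz F (2 ^ (m + 1))) →* Module.End (ZMod 4) M :=
    { toFun := fun g => AddMonoidHom.toZModLinearMap 4 (ρ g)
      map_one' := LinearMap.ext fun x => by rw [map_one]; rfl
      map_mul' := fun g h => LinearMap.ext fun x => by rw [map_mul]; rfl }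
  let ρR := (Module.End.baseChangeHom (ZMod 4) R M).toMonoidHom.comp ρ4
  have hρR : NormZero ρR := by
    intro g n hn hg hg1
    have h0 : ∑ j ∈ range n, ρ4 g ^ j = 0 := LinearMap.ext fun x => by
      have := DFunLike.congr_fun (hρ g n hn hg hg1) x
      simp only [← map_pow] at this ⊢
      rw [LinearMap.sum_apply]
      exact (AddMonoidHom.finsetSum_apply _ _ _).symm.trans this
    simpa [ρR] using congrArg (Module.End.baseChangeHom (ZMod 4) R M) h0
  have : Module.Finite (ZMod 4) M := Module.Finite.of_finite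
  have : Module.Finite (ZMod 4) R := Module.Finite.of_finite
  have : Finite (R ⊗[ZMod 4] M) := Module.finite_of_finite (ZMod 4)
  intro x
  have h := two_smul_eq_zero π hπ hker h4R hF hm ρR hρR hnat ((1 : R) ⊗ₜ[ZMod 4] x)
  rw [two_smul] at h
  rw [two_nsmul]
  have := congrArg (fun z => TensorProduct.lid (ZMod 4) M (φ.rTensor M z)) h
  simpa [hφ] using this

/-- A fixed-point-free module of exponent dividing four of a Suzuki group is elementary abelian. -/
theorem sz_no_exponent_four {F : Type} [Field F] [Fintype F] [CharP F 2] {m : ℕ} (hm : 1 ≤ m)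
    (hF : Fintype.card F = 2 ^ (2 * m + 1)) {M : Type u} [AddCommGroup M] [Finite M]
    (ρ : ↥(Cfsg.Lie.Sz F (2 ^ (m + 1))) →* AddMonoid.End M) (hρ : NormZero ρ)
    (h4 : ∀ x : M, 4 • x = 0) : ∀ x : M, 2 • x = 0 :=
  sz_no_exponent_four' hm hF ρ hρ (fun _ _ _ _ _ ρV hV => exists_natural hm hF ρV hV) h4

end Cfsg.Agent.CNStructure
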