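import Cfsg.Agent.CNStructure.SzDefs

/-!
# A fixed-point-free representation of a Suzuki group in characteristic two contains a natural module

`exists_natural`: if every non-trivial element of odd order has norm zero on a non-zero finite-dimensional
`F`-representation of `Sz(F)`, the representation contains the natural module twisted by a field automorphism.

A vector fixed by the unipotent group and a functional fixed by the opposite unipotent group, both eigen for
the torus, give the matrix coefficient `g ↦ φ (g v) = (g₃₃)ⁿ`; the norm of an element of order five forces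
`x ↦ xⁿ` to be additive.
-/

set_option autoImplicit false

open Finset Cfsg.Agent.SzDeg

namespace Cfsg.Agent.CNStructure

section Rep

variable {F : Type*} [Field F] {X : Type*} [Monoid X]
  {V W : Type*} [AddCommGroup V] [Module F V] [AddCommGroup W] [Module F W]

theorem NormZero.sum_apply {ρ : X →* Module.End F V} (hρ : NormZero ρ) {x : X} {n : ℕ} (hn : Odd n)
    (hx : x ^ n = 1) (hx1 : x ≠ 1) (v : V) : ∑ j ∈ range n, ρ (x ^ j) v = 0 := by
  have := LinearMap.congr_fun (hρ x n hn hx hx1) v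
  simpa [LinearMap.sum_apply, map_pow] using this

theorem NormZero.of_injective {ρ : X →* Module.End F W} {ρ' : X →* Module.End F V} (f : W →ₗ[F] V)
    (hf : Function.Injective f) (hfe : ∀ g w, f (ρ g w) = ρ' g (f w)) (h : NormZero ρ') : NormZero ρ := by
  intro x n hn hx hx1
  refine LinearMap.ext fun w => hf ?_
  rw [LinearMap.sum_apply, map_sum, LinearMap.zero_apply, map_zero]
  simp only [← map_pow, hfe]
  exact h.sum_apply hn hx hx1 _

theorem NormZero.of_surjective {ρ : X →* Module.End F W} {ρ' : X →* Module.End F V} (f : V →ₗ[F] W)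
    (hf : Function.Surjective f) (hfe : ∀ g v, f (ρ' g v) = ρ g (f v)) (h : NormZero ρ') : NormZero ρ := by
  intro x n hn hx hx1
  refine LinearMap.ext fun w => ?_
  obtain ⟨v, rfl⟩ := hf w
  rw [LinearMap.sum_apply, LinearMap.zero_apply]
  simp only [← map_pow, ← hfe, ← map_sum, h.sum_apply hn hx hx1, map_zero]

/-- The action on an invariant submodule. -/
def subRep (ρ : X →* Module.End F V) (S : Submodule F V) (hS : ∀ g, ∀ v ∈ S, ρ g v ∈ S) :
    X →* Module.End F S where
  toFun g := (ρ g).restrict (hS g)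
  map_one' := LinearMap.ext fun v => Subtype.ext (by simp)
  map_mul' g h := LinearMap.ext fun v => Subtype.ext (by simp)

theorem subRep_coe (ρ : X →* Module.End F V) (S : Submodule F V) (hS : ∀ g, ∀ v ∈ S, ρ g v ∈ S) (g : X)
    (v : S) : (subRep ρ S hS g v : V) = ρ g v := rfl

theorem NormZero.subRep {ρ : X →* Module.End F V} (h : NormZero ρ) (S : Submodule F V)
    (hS : ∀ g, ∀ v ∈ S, ρ g v ∈ S) : NormZero (CNStructure.subRep ρ S hS) :=
  h.of_injective S.subtype S.injective_subtype fun g v => subRep_coe ρ S hS g v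

/-- A non-zero representation has an irreducible invariant submodule. -/
theorem exists_simple [FiniteDimensional F V] [Nontrivial V] (ρ : X →* Module.End F V) :
    ∃ (S : Submodule F V) (hS : ∀ g, ∀ v ∈ S, ρ g v ∈ S), Nontrivial S ∧
      ∀ R : Submodule F S, (∀ g, ∀ v ∈ R, subRep ρ S hS g v ∈ R) → R = ⊥ ∨ R = ⊤ := by
  classical
  let P : ℕ → Prop := fun d =>
    ∃ S : Submodule F V, (∀ g, ∀ v ∈ S, ρ g v ∈ S) ∧ S ≠ ⊥ ∧ Module.finrank F S = d
  have hP : ∃ d, P d := ⟨_, ⊤, fun _ _ _ => Submodule.mem_top, top_ne_bot, rfl⟩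
  obtain ⟨S, hS, hS0, hSd⟩ := Nat.find_spec hP
  refine ⟨S, hS, Submodule.nontrivial_iff_ne_bot.2 hS0, fun R hR => or_iff_not_imp_left.2 fun hR0 => ?_⟩
  have hRi : ∀ g, ∀ v ∈ R.map S.subtype, ρ g v ∈ R.map S.subtype := by
    rintro g _ ⟨v, hv, rfl⟩
    exact ⟨_, hR g v hv, rfl⟩
  have hmap : R.map S.subtype ≠ ⊥ := by
    rw [Ne, ← Submodule.map_bot S.subtype]
    exact fun e => hR0 (Submodule.map_injective_of_injective S.injective_subtype e)
  have hle := Nat.find_min' hP ⟨R.map S.subtype, hRi, hmap, rfl⟩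
  rw [← hSd] at hle
  have hge := Submodule.finrank_mono (Submodule.map_subtype_le S R)
  have := Submodule.eq_of_le_of_finrank_eq (Submodule.map_subtype_le S R) (le_antisymm hge hle)
  refine Submodule.map_injective_of_injective S.injective_subtype ?_
  rw [this, Submodule.map_subtype_top]

end Rep

section Sz

variable {F : Type*} [Field F] [Fintype F] [CharP F 2] {m : ℕ}

set_option quotPrecheck false in
local notation "SzG" => ↥(Cfsg.Lie.Sz F (2 ^ (m + 1)))

/-- The matrix of an element. -/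
abbrev mat (g : ↥(Cfsg.Lie.Sz F (2 ^ (m + 1)))) : Matrix (Fin 4) (Fin 4) F := (g.1 : GL (Fin 4) F).1

omit [Fintype F] [CharP F 2] in
theorem mat_mul (g h : SzG) : mat (g * h) = mat g * mat h := rfl

theorem mat_J : mat (J F m) = PrimeGraph.J4 F := rfl

theorem mat_U (hF : Fintype.card F = 2 ^ (2 * m + 1)) (a b : F) : mat (U hF a b) = uMat m a b := rfl

theorem J_mul_apply_three (g : SzG) (i : Fin 4) : mat (J F m * g) i 3 = mat g i.rev 3 := by
  rw [mat_mul, mat_J, Matrix.mul_apply, Fin.sum_univ_four]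
  fin_cases i <;> simp [PrimeGraph.J4, Fin.rev]

/-- Elements outside the big cell. -/
theorem small_cell (hF : Fintype.card F = 2 ^ (2 * m + 1)) (g : SzG) (h : mat g 3 3 = 0) :
    ∃ t a b, g = J F m * (T hF t * U hF a b) := by
  have h0 : mat (J F m * g) 0 3 = 0 := by rw [J_mul_apply_three]; exact h
  have hb : ∃ t a b, J F m * g = T hF t * U hF a b := by
    rcases col_three hF (J F m * g) with ⟨-, h1, h2⟩ | ⟨a, b, c, hc⟩
    · exact borel_eq hF h0 h1 h2
    · have hc0 : c = 0 := by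
        have := hc 0
        change mat (J F m * g) 0 3 = _ at this
        rw [h0] at this
        simpa [uMat] using this.symm
      exact borel_eq hF h0 (by rw [hc 1, hc0, mul_zero]) (by rw [hc 2, hc0, mul_zero])
  obtain ⟨t, a, b, he⟩ := hb
  exact ⟨t, a, b, by rw [← he, ← mul_assoc, J_mul_self, one_mul]⟩

/-- The big cell. -/
theorem big_cell (hF : Fintype.card F = 2 ^ (2 * m + 1)) (g : SzG) (h : mat g 3 3 ≠ 0) :
    ∃ a b t a' b', g = J F m * U hF a b * J F m * (T hF t * U hF a' b') ∧ mat g 3 3 = ((t : F))⁻¹ := by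
  set k := J F m * g with hk
  have h0 : mat k 0 3 ≠ 0 := by rw [hk, J_mul_apply_three]; exact h
  rcases col_three hF k with ⟨h1, -, -⟩ | ⟨a, b, c, hc⟩
  · exact absurd h1 h0
  · set u := U hF a (b + a ^ 2 ^ (m + 1) * a) with hu
    have hone : uMat m a (b + a ^ 2 ^ (m + 1) * a) * uMat m a b = 1 := (uGL hF a b).inv_val
    have hinner : ∀ i, mat (u * k) i 3 = (1 : Matrix (Fin 4) (Fin 4) F) i 0 * c := by
      intro i
      rw [mat_mul, hu, mat_U, Matrix.mul_apply, ← hone, Matrix.mul_apply, Finset.sum_mul]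
      exact Finset.sum_congr rfl fun l _ => by rw [show mat k l 3 = _ from hc l, mul_assoc]
    have hcol : ∀ i : Fin 4, i ≠ 3 → mat (J F m * (u * k)) i 3 = 0 := by
      intro i hi
      rw [J_mul_apply_three, hinner]
      fin_cases i <;> simp [Fin.rev] at hi ⊢
    obtain ⟨t, a', b', he⟩ :=
      borel_eq hF (hcol 0 (by decide)) (hcol 1 (by decide)) (hcol 2 (by decide))
    have hu' : U hF a b * u = 1 := Subtype.ext (Units.ext (uGL hF a b).val_inv)
    have hg : g = J F m * U hF a b * J F m * (T hF t * U hF a' b') := by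
      rw [← he, hk]
      have hJ := J_mul_self (F := F) (m := m)
      calc g = (J F m * J F m) * g := by rw [hJ, one_mul]
        _ = J F m * (U hF a b * u) * J F m * g := by rw [hu', mul_one]
        _ = J F m * U hF a b * (J F m * J F m) * u * (J F m * g) := by rw [hJ, mul_one]; simp only [mul_assoc]
        _ = J F m * U hF a b * J F m * (J F m * (u * (J F m * g))) := by simp only [mul_assoc]
    refine ⟨a, b, t, a', b', hg, ?_⟩
    rw [hg, mat_mul, mat_mul, mat_mul, mat_mul, mat_J, mat_U, mat_U,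
      show mat (T hF t) = Matrix.diagonal (NilCover.szDiag (2 ^ (m + 1)) (t : F)) from T_val hF t]
    simp [Matrix.mul_apply, Fin.sum_univ_four, PrimeGraph.J4, uMat, NilCover.szDiag]

theorem T_pow (hF : Fintype.card F = 2 ^ (2 * m + 1)) (t : Fˣ) (n : ℕ) : T hF t ^ n = T hF (t ^ n) := by
  induction n with
  | zero => exact (pow_zero _).trans ((T_one hF).symm.trans (congrArg (T hF) (pow_zero t).symm))
  | succ n ih => exact (pow_succ _ n).trans ((congrArg (· * T hF t) ih).trans
      ((T_mul hF _ _).trans (congrArg (T hF) (pow_succ t n).symm)))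

theorem T_inv (hF : Fintype.card F = 2 ^ (2 * m + 1)) (t : Fˣ) : (T hF t)⁻¹ = T hF t⁻¹ :=
  inv_eq_of_mul_eq_one_right (by rw [T_mul, mul_inv_cancel, T_one])

theorem U_inv (hF : Fintype.card F = 2 ^ (2 * m + 1)) (a b : F) :
    (U hF a b)⁻¹ = U hF a (b + a ^ 2 ^ (m + 1) * a) :=
  inv_eq_of_mul_eq_one_right (Subtype.ext (Units.ext (uGL hF a b).val_inv))

theorem card_units_cast (hF : Fintype.card F = 2 ^ (2 * m + 1)) :
    ((Fintype.card F - 1 : ℕ) : F) = 1 := by
  rw [hF, Nat.cast_sub (Nat.one_le_two_pow), Nat.cast_pow, Nat.cast_ofNat, CharTwo.two_eq_zero,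
    zero_pow (by omega), Nat.cast_one, zero_sub, CharTwo.neg_eq]

omit [CharP F 2] in
theorem unit_pow (t : Fˣ) : t ^ (Fintype.card F - 1) = 1 := by
  classical
  rw [← Fintype.card_units]
  exact pow_card_eq_one

variable {V : Type*} [AddCommGroup V] [Module F V]

/-- A vector fixed by the unipotent group which is an eigenvector of the torus. -/
theorem exists_weight [FiniteDimensional F V] [Nontrivial V] (hF : Fintype.card F = 2 ^ (2 * m + 1))
    (ρ : SzG →* Module.End F V) :
    ∃ (v : V) (n : ℕ), v ≠ 0 ∧ (∀ a b, ρ (U hF a b) v = v) ∧ ∀ t : Fˣ, ρ (T hF t) v = ((t : F)⁻¹) ^ n • v := by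
  classical
  have := Fact.mk Nat.prime_two
  have : Finite V := Module.finite_of_finite F
  let S : Subgroup SzG :=
    { carrier := {g | ∃ a b, g = U hF a b}
      one_mem' := ⟨0, 0, (U_zero hF).symm⟩
      mul_mem' := by rintro _ _ ⟨a, b, rfl⟩ ⟨a', b', rfl⟩; exact ⟨_, _, U_mul hF a b a' b'⟩
      inv_mem' := by rintro _ ⟨a, b, rfl⟩; exact ⟨_, _, U_inv hF a b⟩ }
  have hS : IsPGroup 2 S := by
    rintro ⟨_, a, b, rfl⟩
    refine ⟨2, Subtype.ext ?_⟩
    show U hF a b ^ 4 = 1
    exact Subtype.ext (Units.ext (LocalStructure.uni_pow_four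
      (show LocalStructure.Uni (uMat m a b) from
        ⟨fun i j h => by fin_cases i <;> fin_cases j <;> first | rfl | exact absurd h (by decide),
          fun i => by fin_cases i <;> rfl⟩)))
  letI : MulAction S V :=
    { smul := fun g v => ρ g.1 v
      one_smul := fun v => show ρ 1 v = v by simp
      mul_smul := fun g h v => show ρ (g.1 * h.1) v = ρ g.1 (ρ h.1 v) by simp }
  have hdvd : 2 ∣ Nat.card V := by
    rw [Module.natCard_eq_pow_finrank (K := F), Nat.card_eq_fintype_card, hF, ← pow_mul]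
    exact dvd_pow_self 2 (Nat.mul_ne_zero (by omega) Module.finrank_pos.ne')
  obtain ⟨w, hw, hw0⟩ := hS.exists_fixed_point_of_prime_dvd_card_of_fixed_point V hdvd
    (a := (0 : V)) (fun g => show ρ g.1 0 = 0 from map_zero _)
  have hwU : ∀ a b, ρ (U hF a b) w = w := fun a b => hw ⟨U hF a b, a, b, rfl⟩
  have hTU : ∀ (t : Fˣ) a b, ρ (U hF a b) (ρ (T hF t) w) = ρ (T hF t) w := by
    intro t a b
    have ht : (t : F) ≠ 0 := t.ne_zero
    have e := T_conj hF t (a * (t : F) ^ 2 / (t : F) ^ 2 ^ (m + 1)) (b * (t : F) ^ 2 ^ (m + 1))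
    rw [show (t : F) ^ 2 ^ (m + 1) / (t : F) ^ 2 * (a * (t : F) ^ 2 / (t : F) ^ 2 ^ (m + 1)) = a by field_simp,
      show b * (t : F) ^ 2 ^ (m + 1) / (t : F) ^ 2 ^ (m + 1) = b by field_simp] at e
    rw [← Module.End.mul_apply, ← map_mul, ← e, map_mul, Module.End.mul_apply, hwU]
  set N := Fintype.card F - 1 with hN
  let P : ℕ → V := fun n => ∑ t : Fˣ, (t : F) ^ n • ρ (T hF t) w
  have hsum : ∑ n ∈ range N, P n = w := by
    have h1 : ∀ t : Fˣ, (∑ n ∈ range N, (t : F) ^ n) = if t = 1 then 1 else 0 := by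
      intro t
      rcases eq_or_ne t 1 with rfl | ht
      · simp [hN, card_units_cast hF]
      · rw [if_neg ht]
        have h2 := geom_sum_mul (t : F) N
        rw [← Units.val_pow_eq_pow_val, unit_pow, Units.val_one, sub_self] at h2
        exact (mul_eq_zero.1 h2).resolve_right (sub_ne_zero.2 fun e => ht (Units.ext e))
    simp only [P]
    rw [Finset.sum_comm]
    simp_rw [← Finset.sum_smul, h1]
    simp [T_one]
  obtain ⟨n, -, hn⟩ : ∃ n ∈ range N, P n ≠ 0 :=
    Finset.exists_ne_zero_of_sum_ne_zero (by rw [hsum]; exact hw0.symm)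
  refine ⟨P n, n, hn, fun a b => ?_, fun s => ?_⟩
  · simp only [P, map_sum, map_smul, hTU]
  · simp only [P, map_sum, map_smul, Finset.smul_sum]
    refine Fintype.sum_equiv (Equiv.mulLeft s) _ _ fun t => ?_
    rw [← Module.End.mul_apply, ← map_mul, T_mul, smul_smul, Equiv.coe_mulLeft, Units.val_mul, mul_pow,
      ← mul_assoc, ← mul_pow, inv_mul_cancel₀ s.ne_zero, one_pow, one_mul]

/-- The dual representation twisted by the Weyl element. -/
def dualConj (ρ : ↥(Cfsg.Lie.Sz F (2 ^ (m + 1))) →* Module.End F V) :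
    ↥(Cfsg.Lie.Sz F (2 ^ (m + 1))) →* Module.End F (Module.Dual F V) where
  toFun g := (ρ (J F m * g⁻¹ * J F m)).dualMap
  map_one' := by
    refine LinearMap.ext fun φ => LinearMap.ext fun x => ?_
    show φ (ρ _ x) = φ x
    rw [inv_one, mul_one, J_mul_self, map_one, Module.End.one_apply]
  map_mul' a b := by
    refine LinearMap.ext fun φ => LinearMap.ext fun x => ?_
    show φ (ρ _ x) = φ (ρ _ (ρ _ x))
    rw [← Module.End.mul_apply, ← map_mul]
    congr 3
    calc J F m * (a * b)⁻¹ * J F m = J F m * b⁻¹ * (J F m * J F m) * a⁻¹ * J F m := by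
          rw [J_mul_self, mul_one, mul_inv_rev]; simp only [mul_assoc]
      _ = _ := by simp only [mul_assoc]

theorem dualConj_apply (ρ : SzG →* Module.End F V) (g : SzG) (φ : Module.Dual F V) (x : V) :
    dualConj ρ g φ x = φ (ρ (J F m * g⁻¹ * J F m) x) := rfl

omit [Fintype F] in
theorem eq_one_of_inv_pow {x : F} {n : ℕ} (h : x ^ n = (x⁻¹) ^ n) (hx : x ≠ 0) : x ^ n = 1 := by
  refine CharTwo.sq_inj.1 ?_
  rw [one_pow, pow_two]
  nth_rewrite 2 [h]
  rw [← mul_pow, mul_inv_cancel₀ hx, one_pow]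

/-- The element of order five. -/
theorem five (hF : Fintype.card F = 2 ^ (2 * m + 1)) :
    (J F m * U hF (0 : F) 1) ^ 5 = 1 ∧ J F m * U hF (0 : F) 1 ≠ 1 ∧
    mat ((J F m * U hF (0 : F) 1) ^ 2) 3 = ![1, 1, 0, 1] ∧
    mat ((J F m * U hF (0 : F) 1) ^ 3) 3 = ![1, 1, 1, 1] ∧
    mat ((J F m * U hF (0 : F) 1) ^ 4) 3 = ![1, 0, 1, 1] ∧
    mat (J F m * U hF (0 : F) 1) 3 = ![1, 0, 0, 0] := by
  set y := J F m * U hF (0 : F) 1
  have hadd := CharTwo.add_self_eq_zero (R := F) 1
  have e1 : mat y = !![1, 1, 0, 1; 1, 0, 1, 0; 0, 1, 0, 0; 1, 0, 0, 0] := by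
    show mat (J F m * U hF (0 : F) 1) = _
    rw [mat_mul, mat_J, mat_U]
    ext i j
    fin_cases i <;> fin_cases j <;> simp [uMat, PrimeGraph.J4, Matrix.mul_apply, Fin.sum_univ_four]
  have e2 : mat (y ^ 2) = !![1, 1, 1, 1; 1, 0, 0, 1; 1, 0, 1, 0; 1, 1, 0, 1] := by
    rw [pow_two, mat_mul, e1]
    ext i j
    fin_cases i <;> fin_cases j <;> simp [Matrix.mul_apply, Fin.sum_univ_four, hadd]
  have e3 : mat (y ^ 3) = !![1, 0, 1, 1; 0, 1, 0, 1; 1, 0, 0, 1; 1, 1, 1, 1] := by
    rw [pow_succ, mat_mul, e2, e1]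
    ext i j
    fin_cases i <;> fin_cases j <;> simp [Matrix.mul_apply, Fin.sum_univ_four, hadd]
  have e4 : mat (y ^ 4) = !![0, 0, 0, 1; 0, 0, 1, 0; 0, 1, 0, 1; 1, 0, 1, 1] := by
    rw [pow_succ, mat_mul, e3, e1]
    ext i j
    fin_cases i <;> fin_cases j <;> simp [Matrix.mul_apply, Fin.sum_univ_four, hadd]
  refine ⟨Subtype.ext (Units.ext ?_), fun h => ?_, ?_, ?_, ?_, ?_⟩
  · show mat (y ^ (4 + 1)) = 1
    rw [pow_succ, mat_mul, e4, e1]
    ext i j
    fin_cases i <;> fin_cases j <;> simp [Matrix.mul_apply, Fin.sum_univ_four, hadd]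
  · have := congrArg (fun g => mat g 3 3) h
    simp only [e1] at this
    simp [mat] at this
  · rw [e2]; rfl
  · rw [e3]; rfl
  · rw [e4]; rfl
  · rw [e1]; rfl

theorem natural_of_simple [FiniteDimensional F V] [Nontrivial V] (hm : 1 ≤ m)
    (hF : Fintype.card F = 2 ^ (2 * m + 1)) (ρ : SzG →* Module.End F V) (hρ : NormZero ρ)
    (hs : ∀ R : Submodule F V, (∀ g, ∀ v ∈ R, ρ g v ∈ R) → R = ⊥ ∨ R = ⊤) :
    ∃ (σ : F ≃+* F) (f : (Fin 4 → F) →ₗ[F] V), HasNatural m ρ σ f := by
  classical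
  obtain ⟨v, n, hv, hvU, hvT⟩ := exists_weight hF ρ
  have : Nontrivial (Module.Dual F V) :=
    Module.nontrivial_of_finrank_pos (R := F) (by rw [Subspace.dual_finrank_eq]; exact Module.finrank_pos)
  obtain ⟨φ, n', hφ, hφU, hφT⟩ := exists_weight hF (dualConj ρ)
  have hφU' : ∀ a b x, φ (ρ (J F m * U hF a b * J F m) x) = φ x := by
    intro a b x
    have := LinearMap.congr_fun (hφU a (b + a ^ 2 ^ (m + 1) * a)) x
    rwa [dualConj_apply, ← U_inv, inv_inv] at this
  have hφT' : ∀ (t : Fˣ) x, φ (ρ (T hF t) x) = ((t : F)⁻¹) ^ n' * φ x := by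
    intro t x
    have := LinearMap.congr_fun (hφT t) x
    rw [dualConj_apply, T_inv, mul_assoc] at this
    rwa [show T hF t⁻¹ * J F m = J F m * T hF t from (J_conj hF t).symm, ← mul_assoc, J_mul_self,
      one_mul] at this
  have hbig : ∀ g : SzG, mat g 3 3 ≠ 0 → φ (ρ g v) = mat g 3 3 ^ n * φ v := by
    intro g hg
    obtain ⟨a, b, t, a', b', he, ht⟩ := big_cell hF g hg
    rw [ht, he, map_mul, Module.End.mul_apply, hφU', map_mul, Module.End.mul_apply, hvU, hvT, map_smul,
      smul_eq_mul]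
  have hsmall : ∀ g : SzG, mat g 3 3 = 0 → ∃ c, φ (ρ g v) = c * φ (ρ (J F m) v) := by
    intro g hg
    obtain ⟨t, a, b, he⟩ := small_cell hF g hg
    refine ⟨((t : F)⁻¹) ^ n, ?_⟩
    rw [he, map_mul, Module.End.mul_apply, map_mul, Module.End.mul_apply, hvU, hvT, map_smul, map_smul,
      smul_eq_mul]
  have hspan : Submodule.span F (Set.range fun g => ρ g v) = ⊤ := by
    refine (hs _ fun g x hx => ?_).resolve_left ?_
    · induction hx using Submodule.span_induction with
      | mem x hx =>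
        obtain ⟨h, rfl⟩ := hx
        exact Submodule.subset_span ⟨g * h, by simp⟩
      | zero => simp
      | add x y _ _ hx hy => rw [map_add]; exact add_mem hx hy
      | smul c x _ hx => rw [map_smul]; exact Submodule.smul_mem _ c hx
    · exact fun h => hv ((Submodule.mem_bot F).1 (h ▸ Submodule.subset_span ⟨1, by simp⟩))
  obtain ⟨hy5, hy1, hy2, hy3, hy4, hy11⟩ := five hF
  set y := J F m * U hF (0 : F) 1 with hy
  have hφv : φ v ≠ 0 := by
    intro h0
    have hj : φ (ρ (J F m) v) = 0 := by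
      have h := congrArg φ (hρ.sum_apply (x := y) (by decide : Odd 5) hy5 hy1 v)
      simp only [map_add, map_zero, Finset.sum_range_succ, Finset.sum_range_zero, zero_add, pow_zero, pow_one] at h
      rw [hbig (y ^ 2) (by rw [hy2]; simp), hbig (y ^ 3) (by rw [hy3]; simp),
        hbig (y ^ 4) (by rw [hy4]; simp), h0, mul_zero, mul_zero, mul_zero, map_one, Module.End.one_apply, h0, hy,
        map_mul, Module.End.mul_apply, hvU] at h
      simpa using h
    refine hφ (LinearMap.ext_on_range hspan fun g => ?_)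
    rw [LinearMap.zero_apply]
    rcases eq_or_ne (mat g 3 3) 0 with hg | hg
    · obtain ⟨c, hc⟩ := hsmall g hg
      rw [hc, hj, mul_zero]
    · rw [hbig g hg, h0, mul_zero]
  have hnn : ∀ t : Fˣ, ((t : F)⁻¹) ^ n = ((t : F)⁻¹) ^ n' := fun t => by
    refine mul_right_cancel₀ hφv ?_
    rw [← hφT', hvT, map_smul, smul_eq_mul]
  obtain ⟨t, ht⟩ : ∃ t : Fˣ, (t : F) ^ n ≠ 1 := by
    by_contra! hall
    obtain ⟨t, ht⟩ := exists_unit_ne_one hm hF
    have hN : Odd (Fintype.card F - 1) := by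
      rw [hF]
      exact Nat.Even.sub_odd Nat.one_le_two_pow (Nat.even_pow.2 ⟨even_two, by omega⟩) odd_one
    have hT1 : T hF t ≠ 1 := fun e => ht (Units.ext (by
      have := congrArg (fun g => mat g 0 0) e
      simpa [mat, T_val, NilCover.szDiag] using this))
    have h := hρ.sum_apply hN (by rw [T_pow, unit_pow, T_one]) hT1 v
    have hfix : ∀ j : ℕ, ρ (T hF t ^ j) v = v := fun j => by
      rw [T_pow, hvT, inv_pow, hall, inv_one, one_smul]
    simp only [hfix, Finset.sum_const, Finset.card_range] at h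
    rw [← Nat.cast_smul_eq_nsmul F, card_units_cast hF, one_smul] at h
    exact hv h
  have hn0 : n ≠ 0 := fun e => ht (by rw [e, pow_zero])
  have hj : φ (ρ (J F m) v) = 0 := by
    by_contra hne
    refine ht (eq_one_of_inv_pow ?_ t.ne_zero)
    refine mul_right_cancel₀ hne ?_
    have e1 : φ (ρ (J F m) (ρ (T hF t) v)) = ((t : F)⁻¹) ^ n * φ (ρ (J F m) v) := by
      rw [hvT, map_smul, map_smul, smul_eq_mul]
    have e2 : φ (ρ (J F m) (ρ (T hF t) v)) = (t : F) ^ n * φ (ρ (J F m) v) := by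
      rw [← Module.End.mul_apply, ← map_mul, J_conj, map_mul, Module.End.mul_apply, hφT', ← hnn,
        Units.val_inv_eq_inv_val, inv_inv]
    rw [← e1, ← e2]
  set ψ : Module.Dual F V := (φ v)⁻¹ • φ with hψ
  have hψg : ∀ g : SzG, ψ (ρ g v) = mat g 3 3 ^ n := by
    intro g
    rw [hψ, LinearMap.smul_apply, smul_eq_mul]
    rcases eq_or_ne (mat g 3 3) 0 with hg | hg
    · obtain ⟨c, hc⟩ := hsmall g hg
      rw [hc, hj, mul_zero, mul_zero, hg, zero_pow hn0]
    · rw [hbig g hg, mul_comm, mul_assoc, mul_inv_cancel₀ hφv, mul_one]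
  -- additivity
  have hadd : ∀ x : F, (1 + x) ^ n = 1 + x ^ n := by
    intro x
    obtain ⟨b, rfl⟩ := (Finite.injective_iff_surjective.1 (iterateFrobenius_inj F 2 (m + 1))) x
    rw [iterateFrobenius_def]
    have h := congrArg ψ (hρ.sum_apply (x := y) (by decide : Odd 5) hy5 hy1
      (ρ (J F m * U hF 0 b * J F m) v))
    simp only [map_add, map_zero, ← Module.End.mul_apply, ← map_mul, hψg, Finset.sum_range_succ,
      Finset.sum_range_zero, zero_add, pow_zero, one_mul, pow_one, mat_mul, mat_J, mat_U] at h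
    rw [Matrix.mul_apply, Matrix.mul_apply, Matrix.mul_apply, Matrix.mul_apply] at h
    simp [Fin.sum_univ_four, Matrix.mul_apply, hy11, hy2, hy3, hy4, PrimeGraph.J4, uMat] at h
    linear_combination h - (1 + (b ^ 2 ^ (m + 1)) ^ n + (b ^ 2 ^ (m + 1) + b + 1) ^ n) * CharTwo.two_eq_zero (R := F)
  have hzero : (0 : F) ^ n = 0 := zero_pow hn0
  let σ₀ : F →+* F :=
    { toFun := fun x => x ^ n
      map_one' := one_pow n
      map_mul' := fun x z => mul_pow x z n
      map_zero' := hzero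
      map_add' := fun x z => by
        rcases eq_or_ne x 0 with rfl | hx
        · simp [hzero]
        · have hxz : x + z = x * (1 + z / x) := by field_simp
          rw [hxz, mul_pow, hadd, mul_add, mul_one, ← mul_pow, mul_div_cancel₀ z hx] }
  let σ : F ≃+* F := RingEquiv.ofBijective σ₀ ⟨σ₀.injective, Finite.injective_iff_surjective.1 σ₀.injective⟩
  have hψσ : ∀ g : SzG, ψ (ρ g v) = σ (mat g 3 3) := hψg
  let c1 : Module.Dual F V := ψ ∘ₗ ρ (J F m)
  let c2 : Module.Dual F V := ψ ∘ₗ ρ (U hF 0 1)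
  let c3 : Module.Dual F V := ψ ∘ₗ ρ (U hF 1 0)
  let Ψ : V →ₗ[F] (Fin 4 → F) := LinearMap.pi ![c1, c2 + c1 + ψ, c3 + c2, ψ]
  have hΨv : ∀ h : SzG, Ψ (ρ h v) = fun i => σ (mat h i 3) := by
    intro h
    have hc : ∀ g : SzG, ψ (ρ g (ρ h v)) = σ (∑ i, mat g 3 i * mat h i 3) := fun g => by
      rw [← Module.End.mul_apply, ← map_mul, hψσ, mat_mul, Matrix.mul_apply]
    funext i
    have h2 := CharTwo.two_eq_zero (R := F)
    have z := zero_pow (M₀ := F) (pow_ne_zero (m + 1) (two_ne_zero (α := ℕ)))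
    fin_cases i <;>
      simp [Ψ, c1, c2, c3, hc, hψσ, mat_J, mat_U, Fin.sum_univ_four, PrimeGraph.J4, uMat, z] <;>
      grind
  have hΨ : ∀ g x, Ψ (ρ g x) = ((mat g).map σ).mulVec (Ψ x) := by
    intro g
    suffices h : Ψ ∘ₗ ρ g = ((mat g).map σ).mulVecLin ∘ₗ Ψ from fun x => LinearMap.congr_fun h x
    refine LinearMap.ext_on_range hspan fun h => ?_
    show Ψ (ρ g (ρ h v)) = ((mat g).map σ).mulVec (Ψ (ρ h v))
    rw [← Module.End.mul_apply, ← map_mul, hΨv, hΨv, mat_mul]
    funext i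
    simp [Matrix.mulVec, dotProduct, Matrix.mul_apply]
  have hinj : Function.Injective Ψ := by
    rw [← LinearMap.ker_eq_bot]
    refine (hs _ fun g x hx => ?_).resolve_right fun htop => ?_
    · rw [LinearMap.mem_ker] at hx ⊢
      rw [hΨ, hx, Matrix.mulVec_zero]
    · have : Ψ (ρ 1 v) = 0 := LinearMap.mem_ker.1 (htop ▸ Submodule.mem_top)
      have := congrFun (hΨv 1 ▸ this) 3
      simp [mat] at this
  have hsurj : Function.Surjective Ψ := by
    rw [← LinearMap.range_eq_top, eq_top_iff]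
    intro x _
    have hmem : ∀ h : SzG, (fun i => σ (mat h i 3)) ∈ LinearMap.range Ψ := fun h => ⟨_, hΨv h⟩
    have hx : x = (x 0 + x 1 + x 2) • (fun i => σ (mat (J F m) i 3)) +
        (x 1 + x 2 + x 3) • (fun i => σ (mat (1 : SzG) i 3)) +
        x 1 • (fun i => σ (mat (U hF 1 0 * J F m) i 3)) + x 2 • (fun i => σ (mat (U hF 0 1 * J F m) i 3)) := by
      have h2 := CharTwo.two_eq_zero (R := F)
      funext i
      fin_cases i <;>
        simp [mat_mul, mat_J, mat_U, Matrix.mul_apply, Fin.sum_univ_four, PrimeGraph.J4, uMat, mat] <;> grind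
    rw [hx]
    exact add_mem (add_mem (add_mem (Submodule.smul_mem _ _ (hmem _)) (Submodule.smul_mem _ _ (hmem _)))
      (Submodule.smul_mem _ _ (hmem _))) (Submodule.smul_mem _ _ (hmem _))
  let e := LinearEquiv.ofBijective Ψ ⟨hinj, hsurj⟩
  refine ⟨σ, e.symm.toLinearMap, e.symm.injective, fun g x => ?_⟩
  refine e.injective ?_
  show Ψ (ρ g (e.symm x)) = e (e.symm _)
  rw [e.apply_symm_apply, hΨ]
  show ((mat g).map σ).mulVec (e (e.symm x)) = _
  rw [e.apply_symm_apply]

end Sz

/-- A fixed-point-free representation contains a twisted natural module. -/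
theorem exists_natural {F : Type} [Field F] [Fintype F] [CharP F 2] {m : ℕ} (hm : 1 ≤ m)
    (hF : Fintype.card F = 2 ^ (2 * m + 1)) {V : Type*} [AddCommGroup V] [Module F V] [FiniteDimensional F V]
    [Nontrivial V] (ρ : ↥(Cfsg.Lie.Sz F (2 ^ (m + 1))) →* Module.End F V) (hρ : NormZero ρ) :
    ∃ σ f, HasNatural m ρ σ f := by
  obtain ⟨S, hS, hS', hs⟩ := exists_simple ρ
  obtain ⟨σ, f, hf, hfe⟩ := natural_of_simple hm hF (subRep ρ S hS) (hρ.subRep S hS) hs
  exact ⟨σ, S.subtype ∘ₗ f, S.injective_subtype.comp hf, fun g x => congrArg Subtype.val (hfe g x)⟩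

end Cfsg.Agent.CNStructure
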